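import Mathlib

/-!
A coprime automorphism of prime order: fixed points, the subgroups `[h, P]`, and their
behaviour under homomorphisms.
-/

set_option autoImplicit false

open scoped Pointwise commutatorElement

namespace Cfsg.Agent.CoprimeGen

variable {H : Type*} [Group H] (x : MulAut H)

/-- The fixed points. -/
abbrev fixed : Subgroup H := (x : H →* H).eqLocus (MonoidHom.id H)

/-- The subgroup `[h, P]`. -/
def br (h : H) : Subgroup H := Subgroup.closure {c : H | ∃ i : ℕ, c = h⁻¹ * (x ^ i) h}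

/-- The subgroup `[H, P]`. -/
def comm : Subgroup H := Subgroup.closure {c : H | ∃ h : H, ∃ i : ℕ, c = h⁻¹ * (x ^ i) h}

/-- The subgroup generated by the fixed points of all the `[h, P]`. -/
def gen : Subgroup H := ⨆ h : H, br x h ⊓ fixed x

theorem mem_fixed {h : H} : h ∈ fixed x ↔ x h = h := Iff.rfl

theorem mem_br (h : H) (i : ℕ) : h⁻¹ * (x ^ i) h ∈ br x h := Subgroup.subset_closure ⟨i, rfl⟩

theorem mem_br_one (h : H) : h⁻¹ * x h ∈ br x h := by
  simpa using mem_br x h 1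

theorem mem_comm (h : H) (i : ℕ) : h⁻¹ * (x ^ i) h ∈ comm x := Subgroup.subset_closure ⟨h, i, rfl⟩

theorem br_le_comm (h : H) : br x h ≤ comm x :=
  Subgroup.closure_mono fun _ ⟨i, hi⟩ => ⟨h, i, hi⟩

theorem gen_le_fixed : gen x ≤ fixed x := iSup_le fun _ => inf_le_right

theorem gen_le_comm : gen x ≤ comm x := iSup_le fun h => inf_le_left.trans (br_le_comm x h)

theorem mem_gen {h z : H} (hz : z ∈ br x h) (hzf : x z = z) : z ∈ gen x :=
  le_iSup (fun h => br x h ⊓ fixed x) h ⟨hz, hzf⟩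

theorem pow_mem_of_inv {S : Subgroup H} (hS : ∀ s ∈ S, x s ∈ S) :
    ∀ (i : ℕ), ∀ s ∈ S, (x ^ i) s ∈ S := by
  intro i
  induction i with
  | zero => intro (s : H) hs; simpa using hs
  | succ i ih => intro s hs; rw [pow_succ', MulAut.mul_apply]; exact hS _ (ih s hs)

theorem pow_fixed {z : H} (hz : x z = z) : ∀ i : ℕ, (x ^ i) z = z := by
  intro i
  induction i with
  | zero => simp
  | succ i ih => rw [pow_succ', MulAut.mul_apply, ih, hz]

theorem br_inv (h : H) : ∀ a ∈ br x h, x a ∈ br x h := by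
  have : br x h ≤ (br x h).comap x.toMonoidHom := by
    refine (Subgroup.closure_le _).2 ?_
    rintro _ ⟨i, rfl⟩
    change x (h⁻¹ * (x ^ i) h) ∈ br x h
    have e : x (h⁻¹ * (x ^ i) h) = (h⁻¹ * (x ^ 1) h)⁻¹ * (h⁻¹ * (x ^ (i + 1)) h) := by
      rw [map_mul, map_inv, pow_one, pow_succ', MulAut.mul_apply, mul_inv_rev, inv_inv, mul_assoc,
        mul_inv_cancel_left]
    rw [e]
    exact mul_mem (inv_mem (mem_br x h 1)) (mem_br x h (i + 1))
  exact fun a ha => this ha

theorem comm_inv : ∀ a ∈ comm x, x a ∈ comm x := by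
  have : comm x ≤ (comm x).comap x.toMonoidHom := by
    refine (Subgroup.closure_le _).2 ?_
    rintro _ ⟨h, i, rfl⟩
    exact br_le_comm x h (br_inv x h _ (mem_br x h i))
  exact fun a ha => this ha

theorem comm_normal : (comm x).Normal := by
  refine ⟨fun a ha g => ?_⟩
  have : comm x ≤ (comm x).comap (MulAut.conj g).toMonoidHom := by
    refine (Subgroup.closure_le _).2 ?_
    rintro _ ⟨h, i, rfl⟩
    have h3 := mul_mem (mem_comm x (h * g⁻¹) i) (inv_mem (mem_comm x g⁻¹ i))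
    rw [map_mul, mul_inv_rev, mul_inv_rev, inv_inv] at h3
    change g * (h⁻¹ * (x ^ i) h) * g⁻¹ ∈ comm x
    simpa [mul_assoc] using h3
  exact this ha

theorem conj_br {c : H} (hc : x c = c) (h : H) {a : H} (ha : a ∈ br x h) :
    c * a * c⁻¹ ∈ br x (h * c⁻¹) := by
  have : br x h ≤ (br x (h * c⁻¹)).comap (MulAut.conj c).toMonoidHom := by
    refine (Subgroup.closure_le _).2 ?_
    rintro _ ⟨i, rfl⟩
    change c * (h⁻¹ * (x ^ i) h) * c⁻¹ ∈ br x (h * c⁻¹)
    have h3 := mem_br x (h * c⁻¹) i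
    rw [map_mul, map_inv, pow_fixed x hc i, mul_inv_rev, inv_inv] at h3
    simpa [mul_assoc] using h3
  exact this ha

/-- The fixed points normalise `gen`. -/
theorem conj_gen {c : H} (hc : x c = c) {a : H} (ha : a ∈ gen x) : c * a * c⁻¹ ∈ gen x := by
  have : gen x ≤ (gen x).comap (MulAut.conj c).toMonoidHom := by
    refine iSup_le fun h => ?_
    rintro z ⟨hz, hzf⟩
    refine mem_gen x (h := h * c⁻¹) (conj_br x hc h hz) ?_
    change x (c * z * c⁻¹) = c * z * c⁻¹
    rw [map_mul, map_mul, map_inv, hc, (mem_fixed x).1 hzf]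
  exact this ha

section Functor

variable {H' : Type*} [Group H'] (x' : MulAut H') (f : H' →* H) (hf : ∀ h, f (x' h) = x (f h))
include hf

theorem map_pow_apply : ∀ (i : ℕ) (h : H'), f ((x' ^ i) h) = (x ^ i) (f h) := by
  intro i
  induction i with
  | zero => simp
  | succ i ih => intro h; rw [pow_succ', MulAut.mul_apply, hf, ih, pow_succ', MulAut.mul_apply]

theorem map_br (h : H') : (br x' h).map f = br x (f h) := by
  rw [br, MonoidHom.map_closure]
  refine congrArg Subgroup.closure (Set.ext fun c => ?_)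
  constructor
  · rintro ⟨_, ⟨i, rfl⟩, rfl⟩
    exact ⟨i, by rw [map_mul, map_inv, map_pow_apply x x' f hf]⟩
  · rintro ⟨i, rfl⟩
    exact ⟨_, ⟨i, rfl⟩, by rw [map_mul, map_inv, map_pow_apply x x' f hf]⟩

theorem map_comm_le : (comm x').map f ≤ comm x := by
  rw [comm, MonoidHom.map_closure]
  refine (Subgroup.closure_le _).2 ?_
  rintro _ ⟨_, ⟨h, i, rfl⟩, rfl⟩
  rw [map_mul, map_inv, map_pow_apply x x' f hf]
  exact mem_comm x _ i

theorem map_comm_eq (hsurj : Function.Surjective f) : (comm x').map f = comm x := by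
  refine le_antisymm (map_comm_le x x' f hf) ((Subgroup.closure_le _).2 ?_)
  rintro _ ⟨h, i, rfl⟩
  obtain ⟨h, rfl⟩ := hsurj h
  exact ⟨_, mem_comm x' h i, by rw [map_mul, map_inv, map_pow_apply x x' f hf]⟩

theorem map_gen_le : (gen x').map f ≤ gen x := by
  rw [gen, Subgroup.map_iSup]
  refine iSup_le fun h => ?_
  rintro _ ⟨z, ⟨hz, hzf⟩, rfl⟩
  refine mem_gen x (h := f h) (map_br x x' f hf h ▸ Subgroup.mem_map_of_mem f hz) ?_
  rw [← hf, (mem_fixed x').1 hzf]

end Functor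

/-- The restriction to an invariant subgroup. -/
noncomputable def resAut [Finite H] (S : Subgroup H) (hS : ∀ s ∈ S, x s ∈ S) : MulAut ↥S :=
  MulEquiv.ofBijective
    ({ toFun := fun s => ⟨x s, hS _ s.2⟩
       map_one' := Subtype.ext (map_one x)
       map_mul' := fun a b => Subtype.ext (map_mul x (a : H) b) } : ↥S →* ↥S)
    (Finite.injective_iff_bijective.1 fun _ _ hab => Subtype.ext (x.injective (congrArg Subtype.val hab)))

@[simp] theorem resAut_apply [Finite H] {S : Subgroup H} (hS : ∀ s ∈ S, x s ∈ S) (s : ↥S) :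
    ((resAut x S hS s : ↥S) : H) = x s := rfl

/-- The induced automorphism of a quotient. -/
noncomputable def quotAut [Finite H] (N : Subgroup H) [N.Normal] (hN : ∀ s ∈ N, x s ∈ N) :
    MulAut (H ⧸ N) :=
  MulEquiv.ofBijective (QuotientGroup.map N N x.toMonoidHom fun s hs => hN s hs)
    (Finite.surjective_iff_bijective.1 fun a => by
      obtain ⟨h, rfl⟩ := QuotientGroup.mk'_surjective N a
      exact ⟨QuotientGroup.mk' N (x.symm h), congrArg (QuotientGroup.mk' N) (x.apply_symm_apply h)⟩)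

@[simp] theorem quotAut_mk [Finite H] {N : Subgroup H} [N.Normal] (hN : ∀ s ∈ N, x s ∈ N) (h : H) :
    quotAut x N hN (QuotientGroup.mk' N h) = QuotientGroup.mk' N (x h) := rfl

theorem pow_eq_one_of_map [Finite H] {H' : Type*} [Group H'] (x' : MulAut H') (f : H' →* H)
    (hf : ∀ h, f (x' h) = x (f h)) (hinj : Function.Injective f) {p : ℕ} (hx : x ^ p = 1) :
    x' ^ p = 1 :=
  MulEquiv.ext fun h => hinj (by rw [map_pow_apply x x' f hf, hx]; rfl)

theorem resAut_pow [Finite H] {S : Subgroup H} (hS : ∀ s ∈ S, x s ∈ S) {p : ℕ} (hx : x ^ p = 1) :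
    resAut x S hS ^ p = 1 :=
  pow_eq_one_of_map x _ S.subtype (fun _ => rfl) S.subtype_injective hx

theorem quotAut_pow [Finite H] {N : Subgroup H} [N.Normal] (hN : ∀ s ∈ N, x s ∈ N) {p : ℕ}
    (hx : x ^ p = 1) : quotAut x N hN ^ p = 1 :=
  MulEquiv.ext fun a => by
    obtain ⟨h, rfl⟩ := QuotientGroup.mk'_surjective N a
    rw [← map_pow_apply (quotAut x N hN) x (QuotientGroup.mk' N) (fun _ => rfl), hx]
    rfl

theorem inv_apply_eq_pow {p : ℕ} (hp : 0 < p) (hx : x ^ p = 1) : x⁻¹ = x ^ (p - 1) := by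
  refine inv_eq_of_mul_eq_one_right ?_
  rw [← pow_succ', Nat.sub_add_cancel hp, hx]

variable [Finite H] {p : ℕ} [hp : Fact p.Prime]

theorem zpowers_isPGroup (hx : x ^ p = 1) : IsPGroup p ↥(Subgroup.zpowers x) := by
  rintro ⟨a, ha⟩
  obtain ⟨k, rfl⟩ := Subgroup.mem_zpowers_iff.1 ha
  exact ⟨1, Subtype.ext (by
    rw [pow_one]
    change (x ^ k) ^ p = 1
    rw [← zpow_natCast, ← zpow_mul, mul_comm, zpow_mul, zpow_natCast, hx, one_zpow])⟩

/-- A fixed element in an invariant coset. -/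
theorem exists_fixed_mem_coset (hx : x ^ p = 1) (hcop : (Nat.card H).Coprime p) {N : Subgroup H}
    (hN : ∀ s ∈ N, x s ∈ N) {h : H} (hh : h⁻¹ * x h ∈ N) : ∃ n ∈ N, x (h * n) = h * n := by
  classical
  let T := {g : H // h⁻¹ * g ∈ N}
  have hstep : ∀ i : ℕ, ∀ g : T, h⁻¹ * (x ^ i) g.1 ∈ N := by
    intro i
    induction i with
    | zero => intro g; simpa using g.2
    | succ i ih =>
      intro g
      rw [pow_succ', MulAut.mul_apply]
      have h1 := N.mul_mem hh (hN _ (ih g))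
      rwa [map_mul, map_inv, mul_assoc, mul_inv_cancel_left] at h1
  have hz : ∀ a : ↥(Subgroup.zpowers x), ∀ g : T, h⁻¹ * (a : MulAut H) g.1 ∈ N := by
    rintro ⟨a, ha⟩ g
    obtain ⟨i, rfl⟩ := (mem_powers_iff_mem_zpowers.2 ha : a ∈ Submonoid.powers x)
    exact hstep i g
  letI : MulAction ↥(Subgroup.zpowers x) T :=
    { smul := fun a g => ⟨(a : MulAut H) g.1, hz a g⟩
      one_smul := fun g => Subtype.ext rfl
      mul_smul := fun a b g => Subtype.ext rfl }
  have hcard : Nat.card T = Nat.card N :=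
    Nat.card_congr ⟨fun g => ⟨h⁻¹ * g.1, g.2⟩, fun n => ⟨h * n.1, by simp⟩,
      fun g => by simp, fun n => by simp⟩
  have hnd : ¬ p ∣ Nat.card T := by
    rw [hcard]
    intro hd
    exact hp.out.ne_one (Nat.dvd_one.1 (hcop.gcd_eq_one ▸ Nat.dvd_gcd (hd.trans (Subgroup.card_subgroup_dvd_card N)) dvd_rfl))
  obtain ⟨g, hg⟩ := (zpowers_isPGroup x hx).nonempty_fixed_point_of_prime_not_dvd_card T hnd
  refine ⟨h⁻¹ * g.1, g.2, ?_⟩
  rw [mul_inv_cancel_left]
  exact congrArg Subtype.val (hg ⟨x, Subgroup.mem_zpowers x⟩)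

/-- An invariant Sylow subgroup. -/
theorem exists_invariant_sylow (hx : x ^ p = 1) (hcop : (Nat.card H).Coprime p) (q : ℕ)
    [Fact q.Prime] : ∃ Q : Sylow q H, ∀ s ∈ (Q : Subgroup H), x s ∈ (Q : Subgroup H) := by
  classical
  obtain ⟨Q0⟩ : Nonempty (Sylow q H) := inferInstance
  have hnd : ¬ p ∣ Nat.card (Sylow q H) := fun hd => hp.out.ne_one (Nat.dvd_one.1
    (hcop.gcd_eq_one ▸ Nat.dvd_gcd (hd.trans (Q0.card_dvd_index.trans (Subgroup.index_dvd_card _))) dvd_rfl))
  obtain ⟨Q, hQ⟩ := (zpowers_isPGroup x hx).nonempty_fixed_point_of_prime_not_dvd_card (Sylow q H) hnd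
  refine ⟨Q, fun s hs => ?_⟩
  have h1 := Subgroup.smul_mem_pointwise_smul s (⟨x, Subgroup.mem_zpowers x⟩ : ↥(Subgroup.zpowers x))
    (Q : Subgroup H) hs
  have h2 : (⟨x, Subgroup.mem_zpowers x⟩ : ↥(Subgroup.zpowers x)) • (Q : Subgroup H) = (Q : Subgroup H) :=
    congrArg (fun R : Sylow q H => (R : Subgroup H)) (hQ ⟨x, Subgroup.mem_zpowers x⟩)
  exact (congrArg (fun R : Subgroup H => x s ∈ R) h2).mp h1

theorem mem_comm_sup_fixed (hx : x ^ p = 1) (hcop : (Nat.card H).Coprime p) (h : H) :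
    ∃ n ∈ br x h, x (h * n) = h * n :=
  exists_fixed_mem_coset x hx hcop (br_inv x h) (mem_br_one x h)

/-- `[[H, P], P] = [H, P]`. -/
theorem comm_comm (hx : x ^ p = 1) (hcop : (Nat.card H).Coprime p) :
    comm x ≤ (comm (resAut x (comm x) (comm_inv x))).map (comm x).subtype := by
  refine (Subgroup.closure_le _).2 ?_
  rintro _ ⟨h, i, rfl⟩
  obtain ⟨n, hn, hfix⟩ := mem_comm_sup_fixed x hx hcop h
  have hn' : n⁻¹ ∈ comm x := inv_mem (br_le_comm x h hn)
  refine ⟨_, mem_comm (resAut x (comm x) (comm_inv x)) ⟨n⁻¹, hn'⟩ i, ?_⟩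
  rw [map_mul, map_inv, map_pow_apply x (resAut x (comm x) (comm_inv x)) (comm x).subtype (fun _ => rfl)]
  change (n⁻¹)⁻¹ * (x ^ i) n⁻¹ = h⁻¹ * (x ^ i) h
  have h1 := pow_fixed x hfix i
  rw [map_mul] at h1
  rw [inv_inv, map_inv, eq_mul_inv_of_mul_eq h1, mul_assoc h, inv_mul_cancel_left]

/-- In an abelian group no nontrivial fixed element lies in `[H, P]`. -/
theorem fixed_inf_comm_eq_bot (hx : x ^ p = 1) (hcop : (Nat.card H).Coprime p)
    (hab : ∀ a b : H, a * b = b * a) : fixed x ⊓ comm x = ⊥ := by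
  letI : CommGroup H := { (inferInstance : Group H) with mul_comm := hab }
  let Nm : H →* H :=
    { toFun := fun a => ∏ i ∈ Finset.range p, (x ^ i) a
      map_one' := by simp
      map_mul' := fun a b => by simp [Finset.prod_mul_distrib] }
  have hNm : ∀ a, Nm a = ∏ i ∈ Finset.range p, (x ^ i) a := fun _ => rfl
  have hshift : ∀ a, Nm (x a) = Nm a := by
    intro a
    obtain ⟨n, hn⟩ : ∃ n, p = n + 1 := Nat.exists_eq_succ_of_ne_zero hp.out.ne_zero
    have h1 : ∀ i : ℕ, (x ^ i) (x a) = (x ^ (i + 1)) a := fun i => by rw [pow_succ, MulAut.mul_apply]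
    rw [hNm, hNm, Finset.prod_congr rfl fun i _ => h1 i, hn, Finset.prod_range_succ,
      Finset.prod_range_succ' (fun i => (x ^ i) a), ← hn, hx, pow_zero]
  have hker : comm x ≤ Nm.ker := by
    refine (Subgroup.closure_le _).2 ?_
    rintro _ ⟨h, i, rfl⟩
    rw [SetLike.mem_coe, MonoidHom.mem_ker, map_mul, map_inv]
    have hall : ∀ i : ℕ, Nm ((x ^ i) h) = Nm h := by
      intro i
      induction i with
      | zero => simp
      | succ i ih => rw [pow_succ', MulAut.mul_apply, hshift, ih]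
    rw [hall, inv_mul_cancel]
  rw [eq_bot_iff]
  rintro z ⟨hz, hzc⟩
  have h1 := hker hzc
  rw [MonoidHom.mem_ker, hNm, Finset.prod_congr rfl fun i _ => pow_fixed x hz i, Finset.prod_const,
    Finset.card_range] at h1
  have h2 : z ^ Nat.card H = 1 := pow_card_eq_one'
  have := pow_gcd_eq_one.2 ⟨h2, h1⟩
  rw [hcop.gcd_eq_one, pow_one] at this
  exact Subgroup.mem_bot.2 this

/-- Fixed points map onto fixed points. -/
theorem exists_fixed_lift (hx : x ^ p = 1) (hcop : (Nat.card H).Coprime p) {H' : Type*} [Group H']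
    (x' : MulAut H') (f : H →* H') (hf : ∀ h, f (x h) = x' (f h)) {S : Subgroup H}
    (hS : ∀ s ∈ S, x s ∈ S) {h : H} (hhS : h ∈ S) (hfix : x' (f h) = f h) :
    ∃ z ∈ S, x z = z ∧ f z = f h := by
  obtain ⟨n, hn, hz⟩ := exists_fixed_mem_coset x hx hcop (N := f.ker ⊓ S)
    (fun s hs => ⟨MonoidHom.mem_ker.2 (by rw [hf, MonoidHom.mem_ker.1 hs.1, map_one]), hS s hs.2⟩)
    (h := h) ⟨MonoidHom.mem_ker.2 (by rw [map_mul, map_inv, hf, hfix, inv_mul_cancel]),
      S.mul_mem (S.inv_mem hhS) (hS h hhS)⟩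
  exact ⟨h * n, S.mul_mem hhS hn.2, hz, by rw [map_mul, MonoidHom.mem_ker.1 hn.1, mul_one]⟩

/-- A power prime to the order of an element. -/
theorem mem_of_pow_mem {G : Type*} [Group G] {S : Subgroup G} {z : G} {m q : ℕ} (hzq : z ^ q = 1)
    (hmq : m.Coprime q) (hz : z ^ m ∈ S) : z ∈ S := by
  have h1 : (z : G) ^ ((1 : ℕ) : ℤ) ∈ S := by
    rw [← hmq.gcd_eq_one, Nat.gcd_eq_gcd_ab, zpow_add, zpow_mul, zpow_mul, zpow_natCast, zpow_natCast,
      hzq, one_zpow, mul_one]
    exact S.zpow_mem hz _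
  simpa using h1

end Cfsg.Agent.CoprimeGen
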