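import Mathlib
import Cfsg.Agent.CoprimeGen.Basic
import Cfsg.Agent.Core.Frattini

/-!
In a minimal counterexample to generation of the coprime fixed points the centre is trivial.
-/

set_option autoImplicit false

open scoped commutatorElement

namespace Cfsg.Agent.CoprimeGen

variable {H : Type*} [Group H] [Finite H] {p : ℕ} [hp : Fact p.Prime] (x : MulAut H)

/-- The hypotheses on a minimal counterexample. -/
structure Minimal : Prop where
  pow : x ^ p = 1
  odd : p ≠ 2
  cop : (Nat.card H).Coprime p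
  top : comm x = ⊤
  sub : ∀ (S : Subgroup H) (hS : ∀ s ∈ S, x s ∈ S), S ≠ ⊤ → ∀ z : H,
    z ∈ (comm (resAut x S hS)).map S.subtype → x z = z → z ∈ gen x
  quo : ∀ (N : Subgroup H), N.Normal → (∀ s ∈ N, x s ∈ N) → N ≠ ⊥ →
    ∀ c : H, x c = c → ∃ k ∈ gen x, ∃ v ∈ N, x v = v ∧ c = k * v
  bad : ∀ (N : Subgroup H), N.Normal → (∀ s ∈ N, x s ∈ N) → N ≠ ⊥ → ¬ (N ⊓ fixed x ≤ gen x)

variable {x}

theorem exists_step' [Group.IsNilpotent H] {S Z : Subgroup H} (hS : S.Normal) (h : ¬ S ≤ Z) :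
    ∃ e ∈ S, e ∉ Z ∧ ∀ g : H, ⁅g, e⁆ ∈ Z := by
  classical
  let Γ := fun n => S ⊓ (⊤ : Subgroup H).lowerCentralSeries n
  have hex : ∃ n, Γ n ≤ Z := ⟨Group.nilpotencyClass H, by
    simp only [Γ, Subgroup.lowerCentralSeries_nilpotencyClass, inf_bot_eq, bot_le]⟩
  have h0 : Nat.find hex ≠ 0 := by
    intro h0
    have := Nat.find_spec hex
    rw [h0] at this
    exact h (by simpa [Γ] using this)
  obtain ⟨m, hm⟩ := Nat.exists_eq_succ_of_ne_zero h0
  have hnot : ¬ Γ m ≤ Z := Nat.find_min hex (by omega)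
  obtain ⟨e, he, heZ⟩ := SetLike.not_le_iff_exists.1 hnot
  refine ⟨e, he.1, heZ, fun g => ?_⟩
  have hspec := Nat.find_spec hex
  rw [hm] at hspec
  refine hspec ⟨?_, ?_⟩
  · rw [commutatorElement_def]
    exact S.mul_mem (hS.conj_mem e he.1 g) (S.inv_mem he.1)
  · rw [Subgroup.lowerCentralSeries_succ, Subgroup.commutator_comm]
    exact Subgroup.commutator_mem_commutator (Subgroup.mem_top g) he.2

variable (D : Minimal (p := p) x)
include D

theorem Minimal.center_fixed {z : H} (hz : z ∈ Subgroup.center H) : x z = z := by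
  have hinv : ∀ s ∈ Subgroup.center H, x s ∈ Subgroup.center H := fun s hs =>
    Subgroup.mem_center_iff.2 fun g => by
      obtain ⟨g, rfl⟩ := x.surjective g
      rw [← map_mul, ← map_mul, Subgroup.mem_center_iff.1 hs]
  let xz := resAut x _ hinv
  let N := (comm xz).map (Subgroup.center H).subtype
  by_contra hne
  refine D.bad N ⟨fun n hn g => ?_⟩ ?_ ?_ ?_
  · have hc : n ∈ Subgroup.center H := Subgroup.map_subtype_le _ hn
    rwa [Subgroup.mem_center_iff.1 hc g, mul_inv_cancel_right]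
  · rintro _ ⟨a, ha, rfl⟩
    exact ⟨xz a, comm_inv xz a ha, rfl⟩
  · intro hbot
    apply hne
    have h1 : (⟨z, hz⟩ : ↥(Subgroup.center H))⁻¹ * (xz ^ 1) ⟨z, hz⟩ ∈ comm xz := mem_comm _ _ _
    have h2 := Subgroup.mem_map_of_mem (Subgroup.center H).subtype h1
    have h3 : z⁻¹ * x z ∈ N := by simpa [xz, N] using h2
    rw [hbot, Subgroup.mem_bot, inv_mul_eq_one] at h3
    exact h3.symm
  · rintro _ ⟨⟨a, ha, rfl⟩, hfix⟩
    have hcopz : (Nat.card ↥(Subgroup.center H)).Coprime p :=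
      D.cop.coprime_dvd_left (Subgroup.card_subgroup_dvd_card _)
    have h4 := fixed_inf_comm_eq_bot (p := p) xz (resAut_pow x hinv D.pow) hcopz
      (fun a b => Subtype.ext (Subgroup.mem_center_iff.1 b.2 a))
    have : a ∈ fixed xz ⊓ comm xz := ⟨Subtype.ext hfix, ha⟩
    rw [h4, Subgroup.mem_bot] at this
    rw [this, map_one]
    exact Subgroup.one_mem _

theorem Minimal.center_inf_gen : Subgroup.center H ⊓ gen x = ⊥ := by
  by_contra hne
  refine D.bad _ ⟨fun n hn g => ?_⟩ (fun s hs => ?_) hne fun s hs => hs.1.2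
  · rwa [Subgroup.mem_center_iff.1 hn.1 g, mul_inv_cancel_right]
  · rwa [D.center_fixed hs.1]

theorem Minimal.eq_one_of_center {z : H} (hz : z ∈ Subgroup.center H) (hg : z ∈ gen x) : z = 1 := by
  have : z ∈ Subgroup.center H ⊓ gen x := ⟨hz, hg⟩
  rwa [D.center_inf_gen, Subgroup.mem_bot] at this

theorem Minimal.br_ne_top (hZ : Subgroup.center H ≠ ⊥) (u : H) : br x u ≠ ⊤ := by
  intro htop
  apply hZ
  rw [eq_bot_iff]
  intro z hz
  rw [Subgroup.mem_bot]
  exact D.eq_one_of_center hz (mem_gen x (h := u) (htop ▸ Subgroup.mem_top z) (D.center_fixed hz))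

/-- An element commuting with all `[u, P]` is central. -/
theorem Minimal.central_of_commute {a : H} (h : ∀ u : H, ∀ i : ℕ, Commute (u⁻¹ * (x ^ i) u) a) :
    a ∈ Subgroup.center H := by
  have hle : (⊤ : Subgroup H) ≤ Subgroup.centralizer ({a} : Set H) := by
    rw [← D.top]
    refine (Subgroup.closure_le _).2 ?_
    rintro _ ⟨u, i, rfl⟩
    exact Subgroup.mem_centralizer_singleton_iff.2 (h u i).eq
  exact Subgroup.mem_center_iff.2 fun g =>
    Subgroup.mem_centralizer_singleton_iff.1 (hle (Subgroup.mem_top g))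

theorem Minimal.fixed_le_commutator {c : H} (hc : x c = c) : c ∈ commutator H := by
  have hinv : ∀ s ∈ commutator H, x s ∈ commutator H := fun s hs =>
    (Subgroup.characteristic_iff_map_le.1 inferInstance x) ⟨s, hs, rfl⟩
  let f := QuotientGroup.mk' (commutator H)
  let xq := quotAut x (commutator H) hinv
  have hab : ∀ a b : H ⧸ commutator H, a * b = b * a := fun a b => by
    obtain ⟨a, rfl⟩ := QuotientGroup.mk'_surjective _ a
    obtain ⟨b, rfl⟩ := QuotientGroup.mk'_surjective _ b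
    rw [← map_mul, ← map_mul]
    refine (QuotientGroup.eq).2 ?_
    rw [show (a * b)⁻¹ * (b * a) = ⁅b⁻¹, a⁻¹⁆ from by rw [commutatorElement_def]; group]
    exact Subgroup.commutator_mem_commutator (Subgroup.mem_top _) (Subgroup.mem_top _)
  have h1 := fixed_inf_comm_eq_bot (p := p) xq (quotAut_pow x hinv D.pow)
    (D.cop.coprime_dvd_left (Subgroup.card_quotient_dvd_card _)) hab
  have h2 : f c ∈ fixed xq ⊓ comm xq := by
    refine ⟨?_, ?_⟩
    · change xq (f c) = f c
      rw [quotAut_mk, hc]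
    · rw [← map_comm_eq xq x f (fun _ => rfl) (QuotientGroup.mk'_surjective _), D.top]
      exact Subgroup.mem_map_of_mem f (Subgroup.mem_top c)
  rw [h1, Subgroup.mem_bot] at h2
  exact (QuotientGroup.eq_one_iff c).1 h2

/-- An element whose commutators are central and which lies in the Frattini subgroup is central
(for a prime-power group). -/
theorem Minimal.central_of_frattini [Group.IsNilpotent H] (hZ : Subgroup.center H ≠ ⊥) :
    ∀ a ∈ commutator H, (∀ g : H, ⁅g, a⁆ ∈ Subgroup.center H) → a ∈ Subgroup.center H := by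
  -- the subgroup of such elements
  let T : Subgroup H :=
    { carrier := {a | a ∈ commutator H ∧ ∀ g : H, ⁅g, a⁆ ∈ Subgroup.center H}
      one_mem' := ⟨one_mem _, fun g => by rw [commutatorElement_one_right]; exact one_mem _⟩
      mul_mem' := fun {a b} ha hb => ⟨mul_mem ha.1 hb.1, fun g => by
        have e : ⁅g, a * b⁆ = ⁅g, a⁆ * (a * ⁅g, b⁆ * a⁻¹) := by simp only [commutatorElement_def]; group
        rw [e, Subgroup.mem_center_iff.1 (hb.2 g) a, mul_inv_cancel_right]
        exact mul_mem (ha.2 g) (hb.2 g)⟩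
      inv_mem' := fun {a} ha => ⟨inv_mem ha.1, fun g => by
        have e : ⁅g, a⁻¹⁆ = a⁻¹ * ⁅g, a⁆⁻¹ * a := by simp only [commutatorElement_def]; group
        rw [e, Subgroup.mem_center_iff.1 (inv_mem (ha.2 g)) a⁻¹, inv_mul_cancel_right]
        exact inv_mem (ha.2 g)⟩ }
  have hTinv : ∀ a ∈ T, x a ∈ T := fun a ha => by
    refine ⟨(Subgroup.characteristic_iff_map_le.1 inferInstance x) ⟨a, ha.1, rfl⟩, fun g => ?_⟩
    obtain ⟨g, rfl⟩ := x.surjective g
    rw [← map_commutatorElement, D.center_fixed (ha.2 g)]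
    exact ha.2 g
  intro a ha haZ
  obtain ⟨n, hn, hfix⟩ := mem_comm_sup_fixed (p := p) x D.pow D.cop a
  have hbrT : br x a ≤ T := by
    refine (Subgroup.closure_le _).2 ?_
    rintro _ ⟨i, rfl⟩
    exact T.mul_mem (T.inv_mem ⟨ha, haZ⟩) (pow_mem_of_inv x hTinv i a ⟨ha, haZ⟩)
  have hcT : a * n ∈ T := T.mul_mem ⟨ha, haZ⟩ (hbrT hn)
  -- fixed elements of `T` are central
  have hc : a * n ∈ Subgroup.center H := by
    refine D.central_of_commute fun u i => ?_
    have h1 : ⁅u⁻¹ * (x ^ i) u, a * n⁆ = 1 := by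
      have e : ∀ g h : H, ⁅g * h, a * n⁆ = g * ⁅h, a * n⁆ * g⁻¹ * ⁅g, a * n⁆ := fun g h => by
        simp only [commutatorElement_def]; group
      have e1 : ∀ g h : H, ⁅g * h, a * n⁆ = ⁅g, a * n⁆ * ⁅h, a * n⁆ := fun g h => by
        rw [e, Subgroup.mem_center_iff.1 (hcT.2 h) g, mul_inv_cancel_right,
          Subgroup.mem_center_iff.1 (hcT.2 g) _]
      have e2 : ⁅(x ^ i) u, a * n⁆ = ⁅u, a * n⁆ := by
        have := congrArg (fun b => ⁅(x ^ i) u, b⁆) (pow_fixed x hfix i)
        simp only [← map_commutatorElement] at this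
        rw [← this, pow_fixed x (D.center_fixed (hcT.2 u)) i]
      rw [e1, e2, ← e1, inv_mul_cancel, commutatorElement_one_left]
    exact commutatorElement_eq_one_iff_commute.1 h1
  -- elements of `[a, P]` are central
  have hn' : n ∈ Subgroup.center H := by
    refine D.central_of_commute fun u i => ?_
    let M := br x u ⊔ frattini H
    have hMinv : ∀ s ∈ M, x s ∈ M := by
      have : M ≤ M.comap x.toMonoidHom := sup_le (fun s hs => Subgroup.mem_sup_left (br_inv x u s hs))
        (fun s hs => Subgroup.mem_sup_right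
          ((Subgroup.characteristic_iff_map_le.1 inferInstance x) ⟨s, hs, rfl⟩))
      exact fun s hs => this hs
    have hMtop : M ≠ ⊤ := fun h => D.br_ne_top hZ u (frattini_nongenerating h)
    have hfr : commutator H ≤ frattini H := Cfsg.Agent.Core.commutator_le_frattini
    have huM : u ∈ M := by
      obtain ⟨m, hm, hmf⟩ := mem_comm_sup_fixed (p := p) x D.pow D.cop u
      have : u * m ∈ M := Subgroup.mem_sup_right (hfr (D.fixed_le_commutator hmf))
      simpa using M.mul_mem this (M.inv_mem (Subgroup.mem_sup_left hm))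
    have haM : a ∈ M := Subgroup.mem_sup_right (hfr ha)
    let xm := resAut x M hMinv
    have hbr : ∀ (w : H) (hw : w ∈ M), br x w ≤ (comm xm).map M.subtype := by
      intro w hw
      have := map_br x xm M.subtype (fun _ => rfl) ⟨w, hw⟩
      change (br xm ⟨w, hw⟩).map M.subtype = br x w at this
      rw [← this]
      exact Subgroup.map_mono (br_le_comm xm _)
    have hw : ⁅u⁻¹ * (x ^ i) u, n⁆ ∈ Subgroup.center H := (hbrT hn).2 _
    refine commutatorElement_eq_one_iff_commute.1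
      (D.eq_one_of_center hw (D.sub M hMinv hMtop _ ?_ (D.center_fixed hw)))
    have h1 := hbr u huM (mem_br x u i)
    have h2 := hbr a haM hn
    rw [commutatorElement_def]
    exact mul_mem (mul_mem (mul_mem h1 h2) (inv_mem h1)) (inv_mem h2)
  simpa using mul_mem hc (inv_mem hn')

/-- A prime-power minimal counterexample has no centre. -/
theorem Minimal.center_eq_bot_of_pgroup {q : ℕ} [Fact q.Prime] (hq : IsPGroup q H) :
    Subgroup.center H = ⊥ := by
  by_contra hZ
  haveI := hq.isNilpotent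
  have hclass : commutator H ≤ Subgroup.center H := by
    by_contra hnot
    obtain ⟨e, he, heZ, hcom⟩ := exists_step' (inferInstance : (commutator H).Normal) hnot
    exact heZ (D.central_of_frattini hZ e he hcom)
  have hcen : ∀ a b : H, ⁅a, b⁆ ∈ Subgroup.center H := fun a b =>
    hclass (Subgroup.commutator_mem_commutator (Subgroup.mem_top a) (Subgroup.mem_top b))
  have hl : ∀ a b c : H, ⁅a * b, c⁆ = ⁅a, c⁆ * ⁅b, c⁆ := fun a b c => by
    have e : ⁅a * b, c⁆ = a * ⁅b, c⁆ * a⁻¹ * ⁅a, c⁆ := by simp only [commutatorElement_def]; group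
    rw [e, Subgroup.mem_center_iff.1 (hcen b c) a, mul_inv_cancel_right,
      Subgroup.mem_center_iff.1 (hcen a c) _]
  have hr : ∀ a b c : H, ⁅a, b * c⁆ = ⁅a, b⁆ * ⁅a, c⁆ := fun a b c => by
    have e : ⁅a, b * c⁆ = ⁅a, b⁆ * (b * ⁅a, c⁆ * b⁻¹) := by simp only [commutatorElement_def]; group
    rw [e, Subgroup.mem_center_iff.1 (hcen a c) b, mul_inv_cancel_right]
  have hinv_l : ∀ a c : H, ⁅a⁻¹, c⁆ = ⁅a, c⁆⁻¹ := fun a c =>
    eq_inv_of_mul_eq_one_left (by rw [← hl, inv_mul_cancel, commutatorElement_one_left])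
  have hinv_r : ∀ a c : H, ⁅a, c⁻¹⁆ = ⁅a, c⁆⁻¹ := fun a c =>
    eq_inv_of_mul_eq_one_left (by rw [← hr, inv_mul_cancel, commutatorElement_one_right])
  have hx : ∀ (i : ℕ) (a b : H), ⁅(x ^ i) a, (x ^ i) b⁆ = ⁅a, b⁆ := fun i a b => by
    rw [← map_commutatorElement, pow_fixed x (D.center_fixed (hcen a b)) i]
  have hself : ∀ u : H, ⁅u, x u⁆ = 1 := by
    intro u
    have hstep : ∀ k, ⁅u, (x ^ (k + 1)) u⁆ = ⁅u, (x ^ k) u⁆ * ⁅u, x u⁆ := by
      intro k
      have h1 : ⁅u⁻¹ * (x ^ 1) u, u⁻¹ * (x ^ (k + 1)) u⁆ = 1 := by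
        refine D.eq_one_of_center (hcen _ _) (mem_gen x (h := u) ?_ (D.center_fixed (hcen _ _)))
        rw [commutatorElement_def]
        exact mul_mem (mul_mem (mul_mem (mem_br x u 1) (mem_br x u (k + 1))) (inv_mem (mem_br x u 1)))
          (inv_mem (mem_br x u (k + 1)))
      rw [hl, hr, hr, hinv_l, hinv_r, hinv_l, commutatorElement_self, inv_inv, one_mul, hinv_r,
        pow_succ' x k, MulAut.mul_apply, pow_one,
        show ⁅x u, x ((x ^ k) u)⁆ = ⁅u, (x ^ k) u⁆ from by simpa using hx 1 u ((x ^ k) u),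
        ← commutatorElement_inv u (x u), inv_inv] at h1
      rw [pow_succ', MulAut.mul_apply, (inv_mul_eq_one.1 h1), Subgroup.mem_center_iff.1 (hcen u ((x ^ k) u))]
    have hpow : ∀ k, ⁅u, (x ^ k) u⁆ = ⁅u, x u⁆ ^ k := by
      intro k
      induction k with
      | zero => rw [pow_zero, pow_zero, MulAut.one_apply, commutatorElement_self]
      | succ k ih => rw [hstep, ih, pow_succ]
    have h2 := hpow p
    rw [D.pow, MulAut.one_apply, commutatorElement_self] at h2
    have h3 : ⁅u, x u⁆ ^ Nat.card H = 1 := pow_card_eq_one'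
    have := pow_gcd_eq_one.2 ⟨h3, h2.symm⟩
    rwa [D.cop.gcd_eq_one, pow_one] at this
  have hswap : ∀ a b : H, ⁅a, x b⁆ = ⁅x a, b⁆ := fun a b => by
    have h := hself (a * b)
    rw [map_mul, hl, hr, hr, hself a, hself b, one_mul, mul_one, ← commutatorElement_inv (x a) b,
      mul_inv_eq_one] at h
    exact h
  have hsq : ∀ a b : H, ⁅a, x (x b)⁆ = ⁅a, b⁆ := fun a b => by
    rw [hswap]; simpa using hx 1 a b
  have hone : ∀ a b : H, ⁅a, x b⁆ = ⁅a, b⁆ := by
    intro a b
    have hev : ∀ n, ⁅a, (x ^ (2 * n)) b⁆ = ⁅a, b⁆ := by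
      intro n
      induction n with
      | zero => simp
      | succ n ih =>
        rw [mul_add, mul_one, show 2 * n + 2 = (2 * n + 1) + 1 from rfl, pow_succ', MulAut.mul_apply,
          pow_succ', MulAut.mul_apply, hsq, ih]
    obtain ⟨m, hm⟩ := hp.out.odd_of_ne_two D.odd
    have := hev (m + 1)
    rwa [show 2 * (m + 1) = p + 1 by omega, pow_succ, MulAut.mul_apply, D.pow, MulAut.one_apply] at this
  have hcomm : ∀ a : H, a ∈ Subgroup.center H := by
    intro a
    refine D.central_of_commute fun u i => commutatorElement_eq_one_iff_commute.1 ?_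
    have hall : ∀ i : ℕ, ⁅a, (x ^ i) u⁆ = ⁅a, u⁆ := by
      intro i
      induction i with
      | zero => simp
      | succ i ih => rw [pow_succ', MulAut.mul_apply, hone, ih]
    rw [← commutatorElement_inv, hr, hinv_r, hall, inv_mul_cancel, inv_one]
  apply hZ
  have h1 := fixed_inf_comm_eq_bot (p := p) x D.pow D.cop fun a b => Subgroup.mem_center_iff.1 (hcomm b) a
  rw [eq_bot_iff]
  intro z hz
  rw [← h1]
  exact ⟨D.center_fixed hz, D.top ▸ Subgroup.mem_top z⟩

/-- The centre of a minimal counterexample is trivial. -/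
theorem Minimal.center_eq_bot : Subgroup.center H = ⊥ := by
  by_contra hZ
  obtain ⟨w, hwZ, hw1⟩ : ∃ w ∈ Subgroup.center H, w ≠ 1 := by
    by_contra hcon
    push Not at hcon
    exact hZ ((Subgroup.eq_bot_iff_forall _).2 hcon)
  obtain ⟨q, hq, hqd⟩ := Nat.exists_prime_and_dvd (n := orderOf w) (fun h => hw1 (orderOf_eq_one_iff.1 h))
  haveI := Fact.mk hq
  obtain ⟨t, ht⟩ := hqd
  let v := w ^ t
  have hvZ : v ∈ Subgroup.center H := Subgroup.pow_mem _ hwZ t
  have hvo : orderOf v = q := by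
    have ht0 : 0 < t := Nat.pos_of_ne_zero fun h => by
      have := orderOf_pos w
      rw [ht, h, mul_zero] at this; exact lt_irrefl 0 this
    rw [orderOf_pow_of_dvd ht0.ne' (Dvd.intro_left q ht.symm), ht, Nat.mul_div_cancel _ ht0]
  have hv1 : v ≠ 1 := fun h => hq.ne_one (by rw [← hvo, h, orderOf_one])
  let V := Subgroup.zpowers v
  have hVZ : V ≤ Subgroup.center H := Subgroup.zpowers_le.2 hvZ
  have hVn : V.Normal := ⟨fun n hn g => by rwa [Subgroup.mem_center_iff.1 (hVZ hn) g, mul_inv_cancel_right]⟩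
  have hVinv : ∀ s ∈ V, x s ∈ V := fun s hs => by rwa [D.center_fixed (hVZ hs)]
  have hVne : V ≠ ⊥ := fun h => hv1 (Subgroup.zpowers_eq_bot.1 h)
  obtain ⟨Q, hQ⟩ := exists_invariant_sylow (p := p) x D.pow D.cop q
  have hVQ : V ≤ (Q : Subgroup H) := by
    have hVp : IsPGroup q ↥V := IsPGroup.of_card (n := 1) (by rw [Nat.card_zpowers, hvo, pow_one])
    have := Q.3 (IsPGroup.to_sup_of_normal_right Q.2 hVp) le_sup_left
    exact le_sup_right.trans_eq this
  by_cases hQt : (Q : Subgroup H) = ⊤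
  · refine hZ (D.center_eq_bot_of_pgroup (q := q) ?_)
    have h2 : IsPGroup q ↥(⊤ : Subgroup H) := hQt ▸ Q.2
    exact h2.of_equiv Subgroup.topEquiv
  let S : Subgroup H := (Q : Subgroup H)
  let xs := resAut x S hQ
  let Q1 : Subgroup ↥S := comm xs ⊔ (gen x).subgroupOf S
  have hcopS : (Nat.card ↥S).Coprime p := D.cop.coprime_dvd_left (Subgroup.card_subgroup_dvd_card _)
  have hdec : ∀ s : ↥S, ∃ q1 ∈ Q1, ∃ v' ∈ V, (s : H) = (q1 : H) * v' := by
    intro s
    obtain ⟨n, hn, hfix⟩ := mem_comm_sup_fixed (p := p) xs (resAut_pow x hQ D.pow) hcopS s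
    obtain ⟨k, hk, v', hv', -, heq⟩ := D.quo V hVn hVinv hVne (s * n : ↥S)
      (congrArg Subtype.val hfix)
    have hkS : k ∈ S := by
      have : k = ((s * n : ↥S) : H) * v'⁻¹ := by rw [heq, mul_inv_cancel_right]
      rw [this]
      exact S.mul_mem (s * n : ↥S).2 (S.inv_mem (hVQ hv'))
    refine ⟨⟨k, hkS⟩ * n⁻¹, Q1.mul_mem (Subgroup.mem_sup_right hk)
      (Q1.inv_mem (Subgroup.mem_sup_left (br_le_comm xs s hn))), v', hv', ?_⟩
    rw [Subgroup.coe_mul, Subgroup.coe_inv, mul_assoc,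
      Subgroup.mem_center_iff.1 (hVZ hv') ((n : H))⁻¹, ← mul_assoc, ← heq, Subgroup.coe_mul,
      mul_inv_cancel_right]
  haveI hQ1n : Q1.Normal := by
    refine ⟨fun a ha g => ?_⟩
    obtain ⟨q1, hq1, v', hv', heq⟩ := hdec g
    have : g * a * g⁻¹ = q1 * a * q1⁻¹ := by
      refine Subtype.ext ?_
      simp only [Subgroup.coe_mul, Subgroup.coe_inv, heq, mul_inv_rev]
      rw [mul_assoc (q1 : H) v', ← Subgroup.mem_center_iff.1 (hVZ hv') (a : H)]
      group
    rw [this]
    exact Q1.mul_mem (Q1.mul_mem hq1 ha) (Q1.inv_mem hq1)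
  have hQ1V : ∀ s ∈ Q1, (s : H) ∈ V → s = 1 := by
    intro s hs hsV
    haveI := comm_normal xs
    obtain ⟨a, ha, k, hk, hak⟩ := Subgroup.mem_sup_of_normal_left.1 hs
    have hfa : x (a : H) = a := by
      have h1 : (a : H) = (s : H) * (k : H)⁻¹ := by rw [← hak, Subgroup.coe_mul, mul_inv_cancel_right]
      have hkf : x (k : H) = k := (mem_fixed x).1 (gen_le_fixed x hk)
      rw [h1, map_mul, map_inv, hkf, D.center_fixed (hVZ hsV)]
    have hak' : (s : H) ∈ gen x := by
      rw [← hak, Subgroup.coe_mul]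
      exact mul_mem (D.sub S hQ hQt _ (Subgroup.mem_map_of_mem _ ha) hfa) hk
    exact Subtype.ext (D.eq_one_of_center (hVZ hsV) hak')
  have hcommQ : ∀ a b : ↥S ⧸ Q1, a * b = b * a := by
    intro a b
    obtain ⟨a, rfl⟩ := QuotientGroup.mk'_surjective Q1 a
    obtain ⟨b, rfl⟩ := QuotientGroup.mk'_surjective Q1 b
    obtain ⟨q1, hq1, v', hv', heq⟩ := hdec a
    have ha' : a = q1 * ⟨v', hVQ hv'⟩ := Subtype.ext heq
    have hz : QuotientGroup.mk' Q1 q1 = 1 := (QuotientGroup.eq_one_iff q1).2 hq1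
    rw [ha', map_mul, hz, one_mul, ← map_mul, ← map_mul]
    exact congrArg _ (Subtype.ext (Subgroup.mem_center_iff.1 (hVZ hv') (b : H)).symm)
  letI : CommGroup (↥S ⧸ Q1) := { (inferInstance : Group (↥S ⧸ Q1)) with mul_comm := hcommQ }
  haveI : S.FiniteIndex := Subgroup.finiteIndex_of_finite
  have hkey : ∀ (k : ℕ) (g₀ : H), g₀⁻¹ * v ^ k * g₀ ∈ S → g₀⁻¹ * v ^ k * g₀ = v ^ k := fun k g₀ _ => by
    rw [mul_assoc, ← Subgroup.mem_center_iff.1 (Subgroup.pow_mem _ hvZ k) g₀, inv_mul_cancel_left]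
  have h1 := MonoidHom.transfer_eq_pow (QuotientGroup.mk' Q1) v hkey
  have hker := Abelianization.commutator_subset_ker (MonoidHom.transfer (QuotientGroup.mk' Q1))
    (D.fixed_le_commutator (D.center_fixed hvZ))
  rw [MonoidHom.mem_ker] at hker
  rw [hker] at h1
  have h2 := hQ1V _ ((QuotientGroup.eq_one_iff _).1 h1.symm) (V.pow_mem (Subgroup.mem_zpowers v) _)
  have h3 : v ^ S.index = 1 := congrArg Subtype.val h2
  have hd := orderOf_dvd_of_pow_eq_one h3
  rw [hvo] at hd
  exact Q.not_dvd_index hd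

end Cfsg.Agent.CoprimeGen
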