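import Mathlib

/-!
The operator identity behind generation of coprime fixed points: an automorphism of odd prime
order of a finite abelian group of operators, and the ideal spanned by six-term combinations.
-/

set_option autoImplicit false

namespace Cfsg.Agent.CoprimeGen

/-- Six elements of a commutative group built from an automorphism `Y` of odd prime order cannot
cancel with signs `+ - + - - +` unless the starting point is fixed. -/
theorem six {Γ F : Type*} [CommGroup Γ] [DecidableEq Γ] [Field F] {p : ℕ} (hp : p.Prime) (hp2 : p ≠ 2)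
    (hpF : (p : F) ≠ 0) (Y : MulAut Γ) (hYp : Y ^ p = 1) (hexp : ∀ γ : Γ, γ ^ p = 1 → γ = 1)
    (h2 : (2 : F) = 0 → ∀ γ : Γ, γ * γ = 1 → γ = 1) (ψ : Γ)
    (hl : Finsupp.single ((Y⁻¹ (Y ψ / ψ))⁻¹) (1 : F) - Finsupp.single (Y ψ / ψ) 1
      + Finsupp.single (Y⁻¹ (Y ψ / ψ)) 1 - Finsupp.single (Y⁻¹ (Y ψ / ψ) / Y⁻¹ (Y⁻¹ (Y ψ / ψ))) 1
      - Finsupp.single ((Y ψ / ψ)⁻¹) 1 + Finsupp.single (Y (Y ψ / ψ) / (Y ψ / ψ)) 1 = 0) :
    Y ψ = ψ := by
  generalize hbdef : Y ψ / ψ = b at hl
  by_cases hb : b = 1
  · exact div_eq_one.1 (hbdef.trans hb)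
  exfalso
  have hpowY : ∀ (n : ℕ) (γ : Γ), (Y ^ (n + 1)) γ = Y ((Y ^ n) γ) := fun n γ => by
    rw [pow_succ', MulAut.mul_apply]
  have hYp' : ∀ γ, (Y ^ p) γ = γ := fun γ => by rw [hYp, MulAut.one_apply]
  have hYb : Y b ≠ b := by
    intro hfix
    apply hb
    apply hexp
    have hit : ∀ n, (Y ^ n) ψ = ψ * b ^ n := by
      intro n
      induction n with
      | zero => simp
      | succ n ih => rw [hpowY, ih, map_mul, map_pow, hfix, pow_succ', ← mul_assoc, ← hbdef, mul_div_cancel]
    have := hit p
    rw [hYp'] at this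
    exact mul_eq_left.1 this.symm
  have hY2b : Y (Y b) ≠ b := by
    intro h2b
    apply hYb
    obtain ⟨m, hm⟩ := hp.odd_of_ne_two hp2
    have : ∀ n, (Y ^ (2 * n)) b = b := by
      intro n
      induction n with
      | zero => simp
      | succ n ih => rw [mul_add, mul_one, pow_add, MulAut.mul_apply, pow_two, MulAut.mul_apply, h2b, ih]
    have h3 := hYp' b
    rw [hm, hpowY, this] at h3
    exact h3
  have hca := DFunLike.congr_fun hl (Y⁻¹ b)⁻¹
  have hcb := DFunLike.congr_fun hl b
  simp only [Finsupp.add_apply, Finsupp.sub_apply, Finsupp.single_apply, Finsupp.zero_apply,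
    if_true] at hca hcb
  generalize ha : (Y⁻¹ b)⁻¹ = a at hca hcb
  generalize hc : Y⁻¹ b = c at hca hcb
  generalize hd : c / Y⁻¹ c = d at hca hcb
  generalize hf : Y b / b = f at hca hcb
  have hYa : Y a = b⁻¹ := by rw [← ha, map_inv, MulAut.apply_inv_self]
  have hYc : Y c = b := by rw [← hc, MulAut.apply_inv_self]
  have hYYd : Y (Y d) = Y b / b := by
    rw [← hd, map_div, MulAut.apply_inv_self, map_div, hYc]
  have hab : a ≠ b := by
    intro hh
    apply hY2b
    have h1 : Y b = b⁻¹ := by rw [← hYa, hh]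
    rw [h1, map_inv, h1, inv_inv]
  have hae : a ≠ b⁻¹ := by
    intro hh
    apply hYb
    rw [← ha, inv_inj] at hh
    conv_lhs => rw [← hh, MulAut.apply_inv_self]
  by_cases hb2 : b * b = 1
  · have hbinv : b⁻¹ = b := inv_eq_of_mul_eq_one_right hb2
    have hca' : c = a := Y.injective (by rw [hYc, hYa, hbinv])
    have hda : d ≠ a := by
      intro hh
      apply hb
      have h1 : Y b / b = Y b⁻¹ := by rw [← hYYd, hh, hYa]
      rw [hbinv, div_eq_self] at h1
      exact h1
    have h2F : (2 : F) ≠ 0 := fun h20 => hb (h2 h20 b hb2)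
    rw [if_neg hab.symm, if_pos hca', if_neg hda, if_neg hae.symm] at hca
    by_cases hfa : f = a
    · rw [if_pos hfa] at hca
      have hp3 : p = 3 := by
        by_contra hp3
        apply hYb
        have hR : Y (Y b) = b * Y b := by
          have h1 : Y (Y b) / Y b = b⁻¹ := by rw [← map_div, hf, hfa, hYa]
          rw [hbinv, div_eq_iff_eq_mul] at h1
          exact h1
        have h3 : Y (Y (Y b)) = b := by
          rw [hR, map_mul, hR, ← mul_assoc, mul_comm (Y b) b, mul_assoc, ← map_mul, hb2, map_one, mul_one]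
        have hit : ∀ n, (Y ^ (3 * n)) b = b := by
          intro n
          induction n with
          | zero => simp
          | succ n ih =>
            rw [mul_add, mul_one, pow_add, MulAut.mul_apply]
            rw [show (Y ^ 3) b = b from by simpa [pow_succ, MulAut.mul_apply] using h3, ih]
        have h4 := hYp' b
        have h5 : p % 3 = 1 ∨ p % 3 = 2 := by
          have : p % 3 ≠ 0 := fun h0 => hp3 ((Nat.prime_dvd_prime_iff_eq Nat.prime_three hp).1
            (Nat.dvd_of_mod_eq_zero h0)).symm
          omega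
        rw [← Nat.mod_add_div p 3, pow_add, MulAut.mul_apply, hit] at h4
        rcases h5 with h5 | h5 <;> rw [h5] at h4
        · simpa using h4
        · exact absurd (by simpa [pow_succ, MulAut.mul_apply] using h4) hY2b
      apply hpF
      rw [hp3]
      push_cast
      linear_combination hca
    · rw [if_neg hfa] at hca
      apply h2F
      linear_combination hca
  · have hbc : c ≠ a := by
      intro hh
      apply hb2
      rw [mul_eq_one_iff_eq_inv, ← hYa, ← hh, hYc]
    have hfa : f ≠ a := by
      intro hh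
      have hR : Y (Y b) * b = Y b := by
        have h1 : Y (Y b) / Y b = b⁻¹ := by rw [← map_div, hf, hh, hYa]
        rw [div_eq_iff_eq_mul] at h1
        rw [h1, inv_mul_cancel_comm]
      have h3 : Y (Y (Y b)) = b⁻¹ := by
        have hR' := congrArg Y hR
        rw [map_mul] at hR'
        rw [← hR', mul_assoc, mul_comm (Y b) b, ← mul_assoc, mul_eq_right, mul_eq_one_iff_eq_inv] at hR
        exact hR
      by_cases hp3 : p = 3
      · apply hb2
        have h4 := hYp' b
        rw [hp3] at h4
        have h5 : b⁻¹ = b := h3.symm.trans (by simpa [pow_succ, MulAut.mul_apply] using h4)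
        rw [mul_eq_one_iff_eq_inv, h5]
      · have h6 : (Y ^ 6) b = b := by
          simp only [pow_succ, pow_zero, one_mul, MulAut.mul_apply]
          rw [h3, map_inv, map_inv, map_inv, h3, inv_inv]
        have hit : ∀ n, (Y ^ (6 * n)) b = b := by
          intro n
          induction n with
          | zero => simp
          | succ n ih => rw [mul_add, mul_one, pow_add, MulAut.mul_apply, h6, ih]
        have h4 := hYp' b
        have h5 : p % 6 = 1 ∨ p % 6 = 5 := by
          have h20 : ¬ 2 ∣ p := fun hd => hp2 ((Nat.prime_dvd_prime_iff_eq Nat.prime_two hp).1 hd).symm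
          have h30 : ¬ 3 ∣ p := fun hd => hp3 ((Nat.prime_dvd_prime_iff_eq Nat.prime_three hp).1 hd).symm
          omega
        rw [← Nat.mod_add_div p 6, pow_add, MulAut.mul_apply, hit] at h4
        rcases h5 with h5 | h5 <;> rw [h5] at h4
        · exact hYb (by simpa using h4)
        · apply hYb
          calc Y b = Y ((Y ^ 5) b) := by rw [h4]
            _ = b := by rw [← hpowY]; exact h6
    rw [if_neg hab.symm, if_neg hbc, if_neg hae.symm, if_neg hfa] at hca
    have hda : d = a := by
      by_contra hda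
      rw [if_neg hda] at hca
      simp at hca
    have hdb : d ≠ b := by rw [hda]; exact hab
    have hcb' : c ≠ b := by
      intro hh
      apply hYb
      conv_lhs => rw [← hh, hYc]
    have heb : b⁻¹ ≠ b := by
      intro hh
      apply hb2
      rw [mul_eq_one_iff_eq_inv, hh]
    have hfb : f ≠ b := by
      intro hh
      apply hY2b
      have h1 : Y b = b * b := div_eq_iff_eq_mul.1 (hf.trans hh)
      have h2' : b = Y b * Y b := by
        have h : Y b / b = (Y b)⁻¹ := by rw [← hYYd, hda, hYa, map_inv]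
        rw [div_eq_iff_eq_mul] at h
        calc b = Y b * ((Y b)⁻¹ * b) := (mul_inv_cancel_left _ _).symm
          _ = Y b * Y b := by rw [← h]
      conv_lhs => rw [h1, map_mul]
      exact h2'.symm
    rw [if_neg hab, if_neg hcb', if_neg hdb, if_neg heb, if_neg hfb] at hcb
    simp at hcb

/-- A six-term relation forces a character to be invariant. -/
theorem chars {A F : Type*} [CommGroup A] [Finite A] [Field F] {p : ℕ} (hp : p.Prime) (hp2 : p ≠ 2)
    (hA : (Nat.card A).Coprime p) (hpF : (p : F) ≠ 0) (X : MulAut A) (hX : X ^ p = 1)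
    (χ : A →* F) (h : ∀ u, χ ((X⁻¹) u / u) - χ (X u / u) + χ (u / (X⁻¹) u)
      - χ ((X⁻¹) ((X⁻¹) u) * u / ((X⁻¹) u * (X⁻¹) u)) - χ (u / X u)
      + χ (X (X u) * u / (X u * X u)) = 0) :
    ∀ u, χ (X u) = χ u := by
  classical
  let Y : MulAut (A →* Fˣ) :=
    { toFun := fun φ => φ.comp X.toMonoidHom
      invFun := fun φ => φ.comp (X⁻¹).toMonoidHom
      left_inv := fun φ => MonoidHom.ext fun u => by simp
      right_inv := fun φ => MonoidHom.ext fun u => by simp
      map_mul' := fun _ _ => rfl }
  have hYpow : ∀ (n : ℕ) (φ : A →* Fˣ) (u : A), ((Y ^ n) φ) u = φ ((X ^ n) u) := by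
    intro n
    induction n with
    | zero => intro φ u; simp
    | succ n ih =>
      intro φ u
      rw [pow_succ', MulAut.mul_apply, pow_succ, MulAut.mul_apply]
      exact ih φ (X u)
  have hYp : Y ^ p = 1 := MulEquiv.ext fun φ => MonoidHom.ext fun u => by
    rw [hYpow, hX]; simp
  let ψ : A →* Fˣ := χ.toHomUnits
  have hψ : ∀ u, (ψ u : F) = χ u := fun u => MonoidHom.coe_toHomUnits χ u
  suffices hfix : Y ψ = ψ by
    intro u
    rw [← hψ, ← hψ]
    exact congrArg Units.val (DFunLike.congr_fun hfix u)
  refine six hp hp2 hpF Y hYp ?_ ?_ ψ ?_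
  · intro φ hφ
    ext u : 1
    have h2 : φ u ^ p = 1 := by
      have := DFunLike.congr_fun hφ u
      simpa using this
    have h1 : φ u ^ Nat.card A = 1 := by rw [← map_pow, pow_card_eq_one', map_one]
    have := pow_gcd_eq_one.2 ⟨h1, h2⟩
    rw [hA.gcd_eq_one, pow_one] at this
    simpa using this
  · intro h20 φ hφ
    ext u : 2
    have h1 := congrArg Units.val (DFunLike.congr_fun hφ u)
    simp only [MonoidHom.mul_apply, Units.val_mul, MonoidHom.one_apply, Units.val_one] at h1 ⊢
    have h3 : ((φ u : F) - 1) ^ 2 = 0 := by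
      have : ((φ u : F) - 1) ^ 2 = ((φ u : F) * φ u - 1) + 2 * (1 - (φ u : F)) := by ring
      rw [this, h1, h20]; ring
    exact sub_eq_zero.1 ((pow_eq_zero_iff two_ne_zero).1 h3)
  · let ι : (A →* Fˣ) → (A →* F) := fun φ => (Units.coeHom F).comp φ
    have hι : Function.Injective ι := fun φ φ' he => MonoidHom.ext fun u =>
      Units.ext (DFunLike.congr_fun he u)
    have hli : LinearIndependent F (fun φ : A →* Fˣ => (ι φ : A → F)) :=
      (linearIndependent_monoidHom A F).comp ι hι
    refine linearIndependent_iff.1 hli _ ?_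
    funext u
    simp only [map_sub, map_add, Finsupp.linearCombination_single, one_smul, Pi.add_apply, Pi.sub_apply,
      Pi.zero_apply]
    refine Eq.trans ?_ (h u)
    have hY1 : ∀ φ : A →* Fˣ, ∀ u, (Y φ) u = φ (X u) := fun _ _ => rfl
    have hY2 : ∀ φ : A →* Fˣ, ∀ u, (Y⁻¹ φ) u = φ (X⁻¹ u) := fun _ _ => rfl
    simp only [ι, MonoidHom.coe_comp, Function.comp_apply, Units.coeHom_apply, MonoidHom.div_apply,
      MonoidHom.inv_apply, hY1, hY2, ← hψ, map_div, map_mul, MulAut.inv_apply_self, MulAut.apply_inv_self]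
    simp only [Units.val_div_eq_div_val, Units.val_inv_eq_inv_val, Units.val_mul]
    field_simp

/-- Every translate sum lands in `S` once the six-term combinations do. -/
theorem fixed_mem {M : Type*} [AddCommGroup M] {A : Type*} [CommGroup A] [Finite A] {p q : ℕ}
    (hp : p.Prime) (hp2 : p ≠ 2) (hq : q.Prime) (hpq : p ≠ q) (hA : (Nat.card A).Coprime p)
    (hAq : (Nat.card A).Coprime q) (htors : ∀ m : M, q • m = 0) (ρ : A →* AddMonoid.End M)
    (X : MulAut A) (hX : X ^ p = 1) (W : Subgroup A) (hW : ∀ w ∈ W, ∃ u, w = X u / u) [Fintype W]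
    (T : M →+ M) (S : AddSubgroup M)
    (hB : ∀ u v, T (ρ ((X⁻¹) u / u) v - ρ (X u / u) v + ρ (u / (X⁻¹) u) v
      - ρ ((X⁻¹) ((X⁻¹) u) * u / ((X⁻¹) u * (X⁻¹) u)) v - ρ (u / X u) v
      + ρ (X (X u) * u / (X u * X u)) v) ∈ S) :
    ∀ v, T (Fintype.card W • v - ∑ w : W, ρ w v) ∈ S := by
  classical
  have hcomm : ∀ x ∈ Set.range ρ, ∀ y ∈ Set.range ρ, x * y = y * x := by
    rintro _ ⟨u, rfl⟩ _ ⟨u', rfl⟩
    rw [← map_mul, ← map_mul, mul_comm]
  let R : Subring (AddMonoid.End M) := Subring.closure (Set.range ρ)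
  letI : CommRing R :=
    { (inferInstance : Ring R) with
      mul_comm := fun x y => by
        have h1 := Subring.isMulCommutative_closure (s := Set.range ρ) hcomm
        exact h1.is_comm.comm x y }
  let ι : A →* R := ρ.codRestrict R fun u => Subring.subset_closure ⟨u, rfl⟩
  let J : Ideal R :=
    { carrier := {r | ∀ v, T ((r : AddMonoid.End M) v) ∈ S}
      zero_mem' := fun v => by rw [show ((0 : R) : AddMonoid.End M) v = 0 from rfl, map_zero]; exact S.zero_mem
      add_mem' := fun {r s} hr hs v => by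
        rw [show ((r + s : R) : AddMonoid.End M) v = (r : AddMonoid.End M) v + (s : AddMonoid.End M) v from rfl,
          map_add]
        exact S.add_mem (hr v) (hs v)
      smul_mem' := fun s r hr v => by
        rw [smul_eq_mul, mul_comm]
        exact hr _ }
  let e : R := ∑ w : W, ι w
  have he : ∀ v, (e : AddMonoid.End M) v = ∑ w : W, ρ w v := fun v => by
    rw [show (e : AddMonoid.End M) = ∑ w : W, ρ w from by
      simp only [e, AddSubmonoidClass.coe_finsetSum]; rfl]
    exact AddMonoidHom.finsetSum_apply _ _ _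
  have hee : e * e = Fintype.card W * e := by
    rw [Finset.sum_mul]
    calc ∑ w : W, ι w * e = ∑ _w : W, e := by
          refine Finset.sum_congr rfl fun w _ => ?_
          rw [Finset.mul_sum]
          refine Fintype.sum_equiv (Equiv.mulLeft w) _ _ fun w' => ?_
          rw [← map_mul]; rfl
      _ = Fintype.card W * e := by rw [Finset.sum_const, Finset.card_univ, nsmul_eq_mul]
  by_cases htop : J ⊔ Ideal.span {e} = ⊤
  · obtain ⟨j, hj, r, hr, h1⟩ := Submodule.mem_sup.1 (htop ▸ Submodule.mem_top (x := (1 : R)))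
    obtain ⟨s, rfl⟩ := Ideal.mem_span_singleton'.1 hr
    have hmem : (Fintype.card W : R) - e ∈ J := by
      have h2 : (Fintype.card W : R) - e = (Fintype.card W : R) * j - e * j := by
        have h1' : j = 1 - s * e := eq_sub_of_add_eq h1
        rw [h1']
        linear_combination (-s) * hee
      rw [h2]
      exact J.sub_mem (J.mul_mem_left _ hj) (J.mul_mem_left _ hj)
    intro v
    have h3 := hmem v
    rw [← he]
    have h4 : ((Fintype.card W : R) : AddMonoid.End M) v = Fintype.card W • v := by
      rw [Subring.coe_natCast]; exact AddMonoid.End.natCast_apply _ _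
    rwa [show (((Fintype.card W : R) - e : R) : AddMonoid.End M) v =
      ((Fintype.card W : R) : AddMonoid.End M) v - (e : AddMonoid.End M) v from rfl, h4] at h3
  · exfalso
    obtain ⟨m, hm, hle⟩ := Ideal.exists_le_maximal _ htop
    letI := Ideal.Quotient.field m
    let π := Ideal.Quotient.mk m
    have hq0 : (q : R ⧸ m) = 0 := by
      rw [← map_natCast π, show (q : R) = 0 from Subtype.ext (by
        rw [Subring.coe_natCast]
        exact AddMonoidHom.ext fun v => (AddMonoid.End.natCast_apply q v).trans (htors v)), map_zero]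
    have hne : ∀ n : ℕ, n.Coprime q → (n : R ⧸ m) ≠ 0 := by
      intro n hn h0
      have hcast : ((Nat.gcd n q : ℕ) : R ⧸ m) = 0 := by
        have := congrArg (fun z : ℤ => (z : R ⧸ m)) (Nat.gcd_eq_gcd_ab n q)
        simp only [Int.cast_natCast, Int.cast_add, Int.cast_mul, h0, hq0, zero_mul, add_zero] at this
        exact this
      rw [hn.gcd_eq_one, Nat.cast_one] at hcast
      exact one_ne_zero hcast
    let χ : A →* R ⧸ m := (π : R →* R ⧸ m).comp ι
    have hχ : ∀ u, χ (X u) = χ u := by
      refine chars hp hp2 hA (hne p ((Nat.coprime_primes hp hq).2 hpq)) X hX χ fun u => ?_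
      let B : R := ι ((X⁻¹) u / u) - ι (X u / u) + ι (u / (X⁻¹) u)
        - ι ((X⁻¹) ((X⁻¹) u) * u / ((X⁻¹) u * (X⁻¹) u)) - ι (u / X u)
        + ι (X (X u) * u / (X u * X u))
      have hBJ : B ∈ J := fun v => hB u v
      have : π B = 0 := Ideal.Quotient.eq_zero_iff_mem.2 (hle (Submodule.mem_sup_left hBJ))
      exact (by simpa only [B, map_add, map_sub] using this : _)
    have hWker : W ≤ χ.toHomUnits.ker → False := by
      intro hker
      apply hne (Fintype.card W) ((Nat.card_eq_fintype_card (α := W)).symm ▸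
        hAq.coprime_dvd_left (Subgroup.card_subgroup_dvd_card W))
      have h0 : π e = 0 := Ideal.Quotient.eq_zero_iff_mem.2
        (hle (Submodule.mem_sup_right (Ideal.subset_span rfl)))
      rw [map_sum] at h0
      rw [← h0, Finset.sum_congr rfl fun (w : W) _ => (show π (ι w) = 1 from by
        exact congrArg Units.val (hker w.2))]
      simp
    refine hWker fun w hw => ?_
    obtain ⟨u, rfl⟩ := hW w hw
    rw [MonoidHom.mem_ker, map_div, div_eq_one]
    exact Units.ext (hχ u)

end Cfsg.Agent.CoprimeGen
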