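import Mathlib
import Cfsg.Agent.CoprimeGen.Ideal
import Cfsg.Agent.CoprimeGen.Central

/-!
Generation of the fixed points of a coprime automorphism of odd prime order on a solvable group.
-/

set_option autoImplicit false
set_option maxHeartbeats 1000000

open scoped commutatorElement

namespace Cfsg.Agent.CoprimeGen

universe v₁

theorem inv_of_characteristic {H : Type*} [Group H] (x : MulAut H) (S : Subgroup H) [S.Characteristic] :
    ∀ s ∈ S, x s ∈ S := fun s hs => (Subgroup.characteristic_iff_map_le.1 inferInstance x) ⟨s, hs, rfl⟩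

/-- The commutator of two generators of `[n v, P]`. -/
theorem comm_identity {G : Type*} [Group G] (n nx ny v vx vy : G)
    (hww : (n⁻¹ * nx) * (n⁻¹ * ny) = (n⁻¹ * ny) * (n⁻¹ * nx)) :
    v⁻¹ * ((n⁻¹ * nx) * vx * (n⁻¹ * nx)⁻¹) * ((n⁻¹ * nx) * (v⁻¹ * ((n⁻¹ * ny) * vy * (n⁻¹ * ny)⁻¹)) * (n⁻¹ * nx)⁻¹)
      * ((n⁻¹ * ny) * (v⁻¹ * ((n⁻¹ * nx) * vx * (n⁻¹ * nx)⁻¹)) * (n⁻¹ * ny)⁻¹)⁻¹
      * (v⁻¹ * ((n⁻¹ * ny) * vy * (n⁻¹ * ny)⁻¹))⁻¹
      = ⁅(n * v)⁻¹ * (nx * vx), (n * v)⁻¹ * (ny * vy)⁆ := by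
  have h1 : (n * v)⁻¹ * (nx * vx) = v⁻¹ * ((n⁻¹ * nx) * vx * (n⁻¹ * nx)⁻¹) * (n⁻¹ * nx) := by group
  have h2 : (n * v)⁻¹ * (ny * vy) = v⁻¹ * ((n⁻¹ * ny) * vy * (n⁻¹ * ny)⁻¹) * (n⁻¹ * ny) := by group
  rw [h1, h2, commutatorElement_def]
  generalize v⁻¹ * ((n⁻¹ * nx) * vx * (n⁻¹ * nx)⁻¹) = T1
  generalize v⁻¹ * ((n⁻¹ * ny) * vy * (n⁻¹ * ny)⁻¹) = T2
  generalize n⁻¹ * nx = w1, n⁻¹ * ny = w2 at hww
  have hw' : w2 * w1 * w2⁻¹ = w1 := by rw [← hww, mul_inv_cancel_right]
  calc T1 * (w1 * T2 * w1⁻¹) * (w2 * T1 * w2⁻¹)⁻¹ * T2⁻¹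
      = T1 * (w1 * T2 * w1⁻¹) * (w2 * T1⁻¹ * w2⁻¹) * T2⁻¹ := by group
    _ = T1 * (w1 * T2 * (w2 * w1 * w2⁻¹)⁻¹) * (w2 * T1⁻¹ * w2⁻¹) * T2⁻¹ := by rw [hw']
    _ = _ := by group

/-- The norm of that commutator, as a six-term product. -/
theorem six_identity {A V : Type*} [CommGroup A] [CommGroup V] (X : MulAut A) (xv : MulAut V)
    (ρ : A →* MulAut V) (hXact : ∀ (a : A) (v : V), xv (ρ a v) = ρ (X a) (xv v)) (Nm : V →* V)
    (hshift : ∀ v, Nm (xv v) = Nm v) (u : A) (v : V) :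
    Nm (v⁻¹ * ρ (X u / u) (xv v) * ρ (X u / u) (v⁻¹ * ρ ((X⁻¹) u / u) (xv⁻¹ v))
        * (ρ ((X⁻¹) u / u) (v⁻¹ * ρ (X u / u) (xv v)))⁻¹ * (v⁻¹ * ρ ((X⁻¹) u / u) (xv⁻¹ v))⁻¹)
      = Nm (ρ ((X⁻¹) u / u) v) * (Nm (ρ (X u / u) v))⁻¹ * Nm (ρ (u / (X⁻¹) u) v)
        * (Nm (ρ ((X⁻¹) ((X⁻¹) u) * u / ((X⁻¹) u * (X⁻¹) u)) v))⁻¹
        * (Nm (ρ (u / X u) v))⁻¹ * Nm (ρ (X (X u) * u / (X u * X u)) v) := by
  have hA : ∀ (w : A) (y : V), Nm (ρ w (xv y)) = Nm (ρ ((X⁻¹) w) y) := fun w y => by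
    rw [← hshift (ρ ((X⁻¹) w) y), hXact, MulAut.apply_inv_self]
  have hB : ∀ (w : A) (y : V), Nm (ρ w (xv⁻¹ y)) = Nm (ρ (X w) y) := fun w y => by
    rw [← hshift (ρ w (xv⁻¹ y)), hXact, MulAut.apply_inv_self]
  have hcomp : ∀ (w w' : A) (y : V), ρ w (ρ w' y) = ρ (w * w') y := fun w w' y => by
    rw [map_mul, MulAut.mul_apply]
  conv_lhs => simp only [map_mul, map_inv]
  conv_lhs => simp only [hcomp]
  have e1 : (X⁻¹) (X u / u) = u / (X⁻¹) u := by rw [map_div, MulAut.inv_apply_self]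
  have e2 : (X⁻¹) ((X⁻¹) u / u * (X u / u)) = (X⁻¹) ((X⁻¹) u) * u / ((X⁻¹) u * (X⁻¹) u) := by
    rw [map_mul, map_div, map_div, MulAut.inv_apply_self, div_mul_div_comm]
  have e3 : X ((X⁻¹) u / u) = u / X u := by rw [map_div, MulAut.apply_inv_self]
  have e4 : X (X u / u * ((X⁻¹) u / u)) = X (X u) * u / (X u * X u) := by
    rw [map_mul, map_div, map_div, MulAut.apply_inv_self, div_mul_div_comm]
  rw [hA, hA, hB, hB, e1, e2, e3, e4]
  generalize Nm v = E
  generalize Nm (ρ ((X⁻¹) u / u) v) = A1, Nm (ρ (X u / u) v) = B1, Nm (ρ (u / (X⁻¹) u) v) = C1,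
    Nm (ρ ((X⁻¹) ((X⁻¹) u) * u / ((X⁻¹) u * (X⁻¹) u)) v) = D1, Nm (ρ (u / X u) v) = E1,
    Nm (ρ (X (X u) * u / (X u * X u)) v) = F1
  calc E⁻¹ * C1 * (B1⁻¹ * F1) * (A1⁻¹ * D1)⁻¹ * (E⁻¹ * E1)⁻¹
      = (A1 * B1⁻¹ * C1 * D1⁻¹ * E1⁻¹ * F1) * (E⁻¹ * E) := by
        apply Additive.ofMul.injective
        simp only [ofMul_mul, ofMul_inv]
        abel
    _ = _ := by rw [inv_mul_cancel, mul_one]

section Module

variable {H : Type*} [Group H] [Finite H] {p : ℕ} [hp : Fact p.Prime] {x : MulAut H}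

/-- No minimal counterexample exists. -/
theorem Minimal.absurd (D : Minimal (p := p) x) [Nontrivial H] (hsol : Group.IsSolvable H) : False := by
  classical
  have hp0 : 0 < p := hp.out.pos
  have hxinv : x⁻¹ = x ^ (p - 1) := inv_apply_eq_pow x hp0 D.pow
  have hZ := D.center_eq_bot
  have hex : ∃ m, ∃ V : Subgroup H, V.Normal ∧ (∀ s ∈ V, x s ∈ V) ∧ V ≠ ⊥ ∧ Nat.card V = m :=
    ⟨_, ⊤, inferInstance, fun _ _ => Subgroup.mem_top _, top_ne_bot, rfl⟩
  obtain ⟨V, hVn, hVinv, hVne, hVcard⟩ := Nat.find_spec hex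
  haveI := hVn
  have hmin : ∀ N : Subgroup H, N.Normal → (∀ s ∈ N, x s ∈ N) → N ≤ V → N = ⊥ ∨ N = V := by
    intro N hN hNi hle
    by_cases hNb : N = ⊥
    · exact Or.inl hNb
    · right
      refine Subgroup.eq_of_le_of_card_ge hle ?_
      rw [hVcard]
      exact Nat.find_min' hex ⟨N, hN, hNi, hNb, rfl⟩
  have hcomm_inv : ∀ A B : Subgroup H, (∀ s ∈ A, x s ∈ A) → (∀ s ∈ B, x s ∈ B) →
      ∀ s ∈ ⁅A, B⁆, x s ∈ ⁅A, B⁆ := by
    intro A B hA hB
    have : ⁅A, B⁆ ≤ (⁅A, B⁆).comap x.toMonoidHom := Subgroup.commutator_le.2 fun a ha b hb => by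
      change x ⁅a, b⁆ ∈ (⁅A, B⁆ : Subgroup H)
      rw [map_commutatorElement]
      exact Subgroup.commutator_mem_commutator (hA a ha) (hB b hb)
    exact fun (s : H) hs => this hs
  obtain ⟨nd, hnd⟩ := (Group.isSolvable_def H).1 hsol
  have hVab : ⁅V, V⁆ = ⊥ := by
    rcases hmin ⁅V, V⁆ inferInstance (hcomm_inv V V hVinv hVinv) (Subgroup.commutator_le_left V V) with h | h
    · exact h
    · exfalso
      apply hVne
      have : ∀ k, V ≤ derivedSeries H k := by
        intro k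
        induction k with
        | zero => exact le_top
        | succ k ih =>
          rw [derivedSeries_succ]
          calc V = ⁅V, V⁆ := h.symm
            _ ≤ _ := Subgroup.commutator_mono ih ih
      exact le_bot_iff.1 ((this nd).trans hnd.le)
  have hVcomm : ∀ a b : ↥V, a * b = b * a := fun a b =>
    Subtype.ext (commutatorElement_eq_one_iff_commute.1 (Subgroup.mem_bot.1
      (hVab ▸ Subgroup.commutator_mem_commutator a.2 b.2))).eq
  obtain ⟨q, hq, hqd⟩ := Nat.exists_prime_and_dvd (n := Nat.card V)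
    (fun h => hVne (Subgroup.eq_bot_of_card_eq _ h))
  haveI := Fact.mk hq
  letI : CommGroup ↥V := { (inferInstance : Group ↥V) with mul_comm := hVcomm }
  have hexp : ∀ v : ↥V, v ^ q = 1 := by
    let Ω : Subgroup H := (powMonoidHom q : ↥V →* ↥V).ker.map V.subtype
    have hΩn : Ω.Normal := by
      refine ⟨?_⟩
      rintro _ ⟨a, ha, rfl⟩ g
      refine ⟨⟨g * a * g⁻¹, hVn.conj_mem _ a.2 g⟩, ?_, rfl⟩
      have h1 : ((a ^ q : ↥V) : H) = 1 := by
        rw [show a ^ q = 1 from ha]; rfl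
      refine Subtype.ext ?_
      change ((⟨g * a * g⁻¹, _⟩ : ↥V) ^ q : ↥V).1 = (1 : H)
      rw [Subgroup.coe_pow, conj_pow, ← Subgroup.coe_pow, h1, mul_one, mul_inv_cancel]
    have hΩi : ∀ s ∈ Ω, x s ∈ Ω := by
      rintro _ ⟨a, ha, rfl⟩
      refine ⟨⟨x a, hVinv _ a.2⟩, ?_, rfl⟩
      refine Subtype.ext ?_
      change ((⟨x a, _⟩ : ↥V) ^ q : ↥V).1 = (1 : H)
      rw [Subgroup.coe_pow, ← map_pow, ← Subgroup.coe_pow, show a ^ q = 1 from ha]
      exact map_one x
    rcases hmin Ω hΩn hΩi (Subgroup.map_subtype_le _) with h | h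
    · exfalso
      obtain ⟨a, ha⟩ := exists_prime_orderOf_dvd_card' q hqd
      have : (a : H) ∈ Ω := ⟨a, show a ^ q = 1 from ha ▸ pow_orderOf_eq_one a, rfl⟩
      rw [h, Subgroup.mem_bot] at this
      rw [Subtype.ext this (a2 := (1 : ↥V)), orderOf_one] at ha
      exact hq.ne_one ha.symm
    · intro v
      have hv : (v : H) ∈ Ω := h.symm ▸ v.2
      obtain ⟨a, ha, hav⟩ := hv
      rw [← show a = v from Subtype.ext hav]
      exact ha
  have hpq : p ≠ q := by
    rintro rfl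
    exact hp.out.ne_one (Nat.dvd_one.1 (D.cop.gcd_eq_one ▸
      Nat.dvd_gcd (hqd.trans (Subgroup.card_subgroup_dvd_card V)) dvd_rfl))
  -- the action on `V`
  let xv := resAut x V hVinv
  have hxvpow : xv ^ p = 1 := resAut_pow x hVinv D.pow
  let ρ : H →* MulAut ↥V := MulAut.conjNormal
  have hρa : ∀ (g : H) (v : ↥V), ((ρ g v : ↥V) : H) = g * v * g⁻¹ := fun g v => MulAut.conjNormal_apply g v
  have hρx : ∀ g : H, ρ (x g) = xv * ρ g * xv⁻¹ := by
    intro g
    refine MulEquiv.ext fun v => Subtype.ext ?_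
    obtain ⟨v, rfl⟩ := xv.surjective v
    rw [hρa, MulAut.mul_apply, MulAut.mul_apply, MulAut.inv_apply_self]
    change x g * x v * (x g)⁻¹ = x (ρ g v : ↥V)
    rw [hρa, map_mul, map_mul, map_inv]
  have hρker : ∀ g : H, ρ g = 1 ↔ g ∈ Subgroup.centralizer (V : Set H) := by
    intro g
    rw [Subgroup.mem_centralizer_iff]
    constructor
    · intro h v hv
      have := congrArg (fun f : MulAut ↥V => ((f ⟨v, hv⟩ : ↥V) : H)) h
      simp only [hρa, MulAut.one_apply] at this
      exact (mul_inv_eq_iff_eq_mul.1 this).symm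
    · intro h
      refine MulEquiv.ext fun v => Subtype.ext ?_
      rw [hρa, MulAut.one_apply, ← h v v.2, mul_inv_cancel_right]
  have hρconj : ∀ g n : H, ρ (g * n * g⁻¹) = ρ g * ρ n * (ρ g)⁻¹ := fun g n => by
    rw [map_mul, map_mul, map_inv]
  have htop : ¬ (⊤ : Subgroup H) ≤ Subgroup.centralizer (V : Set H) := by
    intro h
    apply hVne
    rw [eq_bot_iff, ← hZ]
    exact fun v hv => Subgroup.mem_center_iff.2 fun g =>
      (Subgroup.mem_centralizer_iff.1 (h (Subgroup.mem_top g)) v hv).symm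
  obtain ⟨k0, hk0, hk1⟩ : ∃ k, ¬ derivedSeries H k ≤ Subgroup.centralizer (V : Set H) ∧
      derivedSeries H (k + 1) ≤ Subgroup.centralizer (V : Set H) := by
    by_contra hcon
    push Not at hcon
    have : ∀ k, ¬ derivedSeries H k ≤ Subgroup.centralizer (V : Set H) := by
      intro k
      induction k with
      | zero => exact htop
      | succ k ih => exact hcon k ih
    exact this nd (hnd.le.trans bot_le)
  let N0 := derivedSeries H k0
  have hN0i : ∀ s ∈ N0, x s ∈ N0 := inv_of_characteristic x N0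
  have hN0c : ∀ a ∈ N0, ∀ b ∈ N0, ρ a * ρ b = ρ b * ρ a := by
    intro a ha b hb
    refine (commutatorElement_eq_one_iff_commute.1 ?_).eq
    rw [← map_commutatorElement]
    exact (hρker _).2 (hk1 (Subgroup.commutator_mem_commutator ha hb))
  -- elements of `r`-power order of the image
  let part : ℕ → Subgroup H := fun r =>
    { carrier := {n | n ∈ N0 ∧ ∃ k, ρ n ^ r ^ k = 1}
      one_mem' := ⟨one_mem _, 0, by simp⟩
      mul_mem' := by
        rintro a b ⟨ha, i, hi⟩ ⟨hb, j, hj⟩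
        refine ⟨mul_mem ha hb, i + j, ?_⟩
        rw [map_mul, (show Commute (ρ a) (ρ b) from hN0c a ha b hb).mul_pow, pow_add, pow_mul, hi, one_pow,
          one_mul, mul_comm (r ^ i), pow_mul, hj, one_pow]
      inv_mem' := by
        rintro a ⟨ha, i, hi⟩
        exact ⟨inv_mem ha, i, by rw [map_inv, inv_pow, hi, inv_one]⟩ }
  have hpartn : ∀ r, (part r).Normal := fun r => ⟨fun n hn g => by
    obtain ⟨hn0, i, hi⟩ := hn
    exact ⟨(inferInstance : N0.Normal).conj_mem n hn0 g, i, by rw [hρconj, conj_pow, hi, mul_one, mul_inv_cancel]⟩⟩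
  have hparti : ∀ r, ∀ s ∈ part r, x s ∈ part r := by
    rintro r s ⟨hs, i, hi⟩
    exact ⟨hN0i s hs, i, by rw [hρx, conj_pow, hi, mul_one, mul_inv_cancel]⟩
  have hfixtriv : ∀ B : Subgroup H, B.Normal → (∀ s ∈ B, x s ∈ B) →
      ¬ B ≤ Subgroup.centralizer (V : Set H) → V ⊓ Subgroup.centralizer (B : Set H) = ⊥ := by
    intro B hB hBi hnot
    haveI := hB
    have hi : ∀ s ∈ V ⊓ Subgroup.centralizer (B : Set H), x s ∈ V ⊓ Subgroup.centralizer (B : Set H) := by
      refine fun s hs => ⟨hVinv s hs.1, Subgroup.mem_centralizer_iff.2 fun b hb => ?_⟩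
      have hb' : x⁻¹ b ∈ B := by
        rw [hxinv]; exact pow_mem_of_inv x hBi _ b hb
      have := congrArg x (Subgroup.mem_centralizer_iff.1 hs.2 _ hb')
      simpa [MulAut.apply_inv_self] using this
    rcases hmin _ inferInstance hi inf_le_left with h | h
    · exact h
    · exfalso
      refine hnot fun b hb => Subgroup.mem_centralizer_iff.2 fun v hv => ?_
      exact (Subgroup.mem_centralizer_iff.1 ((h.symm.le hv).2) b hb).symm
  have hqfree : ∀ n ∈ N0, ∀ k, ρ n ^ q ^ k = 1 → ρ n = 1 := by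
    intro n hn k hk
    by_contra hne
    have hnot : ¬ part q ≤ Subgroup.centralizer (V : Set H) := fun h =>
      hne ((hρker n).2 (h ⟨hn, k, hk⟩))
    have hbot := hfixtriv _ (hpartn q) (hparti q) hnot
    have hBp : IsPGroup q ↥((part q).map ρ) := by
      rintro ⟨_, b, ⟨-, i, hi⟩, rfl⟩
      exact ⟨i, Subtype.ext hi⟩
    letI : MulAction ↥((part q).map ρ) ↥V := MulAction.compHom _ ((part q).map ρ).subtype
    have h1 : (1 : ↥V) ∈ MulAction.fixedPoints ↥((part q).map ρ) ↥V := fun b => map_one (b : MulAut ↥V)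
    obtain ⟨b, hb, hb1⟩ := hBp.exists_fixed_point_of_prime_dvd_card_of_fixed_point ↥V hqd h1
    apply hb1
    have : (b : H) ∈ V ⊓ Subgroup.centralizer (part q : Set H) := by
      refine ⟨b.2, Subgroup.mem_centralizer_iff.2 fun g hg => ?_⟩
      have := congrArg Subtype.val (hb ⟨ρ g, Subgroup.mem_map_of_mem ρ hg⟩)
      change ((ρ g b : ↥V) : H) = b at this
      rw [hρa] at this
      exact mul_inv_eq_iff_eq_mul.1 this
    rw [hbot, Subgroup.mem_bot] at this
    exact (Subtype.ext this : b = 1).symm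
  obtain ⟨n1, hn1, hn1ne⟩ := SetLike.not_le_iff_exists.1 hk0
  have hρn1 : ρ n1 ≠ 1 := fun h => hn1ne ((hρker n1).1 h)
  obtain ⟨r, hr, hrd⟩ := Nat.exists_prime_and_dvd (n := orderOf (ρ n1))
    (fun h => hρn1 (orderOf_eq_one_iff.1 h))
  haveI := Fact.mk hr
  obtain ⟨tr, htr⟩ := hrd
  have hn2r : ρ (n1 ^ tr) ^ r = 1 := by
    rw [map_pow, ← pow_mul, mul_comm, ← htr, pow_orderOf_eq_one]
  have hn2ne : ρ (n1 ^ tr) ≠ 1 := by
    rw [map_pow]
    intro h
    have hd := orderOf_dvd_of_pow_eq_one h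
    rw [htr] at hd
    have htr0 : 0 < tr := Nat.pos_of_ne_zero fun h0 => by
      have := orderOf_pos (ρ n1)
      rw [htr, h0, mul_zero] at this
      exact lt_irrefl 0 this
    have := Nat.le_of_dvd htr0 hd
    nlinarith [hr.two_le]
  have hrq : r ≠ q := by
    rintro rfl
    exact hn2ne (hqfree _ (pow_mem hn1 _) 1 (by rw [pow_one]; exact hn2r))
  let N1 := part r
  have hN1not : ¬ N1 ≤ Subgroup.centralizer (V : Set H) := fun h =>
    hn2ne ((hρker _).2 (h ⟨pow_mem hn1 _, 1, by rw [pow_one]; exact hn2r⟩))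
  let Ab : Subgroup (MulAut ↥V) := N1.map ρ
  letI : CommGroup ↥Ab :=
    { (inferInstance : Group ↥Ab) with
      mul_comm := by
        rintro ⟨_, a, ha, rfl⟩ ⟨_, b, hb, rfl⟩
        exact Subtype.ext (hN0c a ha.1 b hb.1) }
  have hAbp : IsPGroup r ↥Ab := by
    rintro ⟨_, b, ⟨-, i, hi⟩, rfl⟩
    exact ⟨i, Subtype.ext hi⟩
  -- an invariant Sylow subgroup covering the image
  let x1 := resAut x N1 (hparti r)
  obtain ⟨Q, hQ⟩ := exists_invariant_sylow (p := p) x1 (resAut_pow x (hparti r) D.pow)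
    (D.cop.coprime_dvd_left (Subgroup.card_subgroup_dvd_card _)) r
  let N : Subgroup H := (Q : Subgroup ↥N1).map N1.subtype
  have hNi : ∀ s ∈ N, x s ∈ N := by
    rintro _ ⟨a, ha, rfl⟩
    exact ⟨x1 a, hQ a ha, rfl⟩
  have hNN1 : N ≤ N1 := Subgroup.map_subtype_le _
  have hNr : IsPGroup r ↥N := Q.2.map N1.subtype
  have hNmap : ∀ a : ↥Ab, ∃ n ∈ N, ρ n = a := by
    intro a
    have hs : Function.Surjective (ρ.subgroupMap N1) := MonoidHom.subgroupMap_surjective ρ N1
    have htopQ : (Q : Subgroup ↥N1).map (ρ.subgroupMap N1) = ⊤ :=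
      ((Q.mapSurjective (f := ρ.subgroupMap N1) hs).3 (Q := ⊤) (hAbp.to_subgroup ⊤) le_top).symm
    obtain ⟨b, hb, hba⟩ := htopQ.symm.le (Subgroup.mem_top a)
    exact ⟨b, ⟨b, hb, rfl⟩, congrArg Subtype.val hba⟩
  have hAbmem : ∀ {g : H}, g ∈ N → ρ g ∈ Ab := fun hg => Subgroup.mem_map_of_mem ρ (hNN1 hg)
  have hcopA : (Nat.card ↥Ab).Coprime p :=
    D.cop.coprime_dvd_left (((N1.map ρ).card_subgroup_dvd_card.trans dvd_rfl).trans dvd_rfl |> fun _ =>
      (Nat.card_congr (Equiv.refl ↥Ab)).symm ▸ (Subgroup.card_map_dvd (f := ρ) (H := N1)).trans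
        (Subgroup.card_subgroup_dvd_card N1))
  obtain ⟨ia, hia⟩ := IsPGroup.iff_card.1 hAbp
  have hAq : (Nat.card ↥Ab).Coprime q := by
    rw [hia]; exact ((Nat.coprime_primes hr hq).2 hrq).pow_left _
  -- the automorphism of the image
  have hXmem : ∀ a ∈ Ab, xv * a * xv⁻¹ ∈ Ab := by
    rintro _ ⟨n, hn, rfl⟩
    exact ⟨x n, hparti r n hn, hρx n⟩
  let X : MulAut ↥Ab := resAut (MulAut.conj xv) Ab hXmem
  have hX : ∀ a : ↥Ab, ((X a : ↥Ab) : MulAut ↥V) = xv * a * xv⁻¹ := fun _ => rfl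
  have hXp : X ^ p = 1 := resAut_pow _ _ (by rw [← map_pow, hxvpow, map_one])
  have hXact : ∀ (a : ↥Ab) (v : ↥V), xv ((a : MulAut ↥V) v) = ((X a : ↥Ab) : MulAut ↥V) (xv v) := by
    intro a v
    rw [hX, MulAut.mul_apply, MulAut.mul_apply, MulAut.inv_apply_self]
  let δ : ↥Ab →* ↥Ab :=
    { toFun := fun a => X a / a
      map_one' := by simp
      map_mul' := fun a b => by rw [map_mul, mul_div_mul_comm] }
  let W : Subgroup ↥Ab := δ.range
  haveI : Fintype ↥W := Fintype.ofFinite _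
  haveI : Fintype ↥Ab := Fintype.ofFinite _
  have hWmem : ∀ (a : ↥Ab) (i : ℕ), (X ^ i) a / a ∈ W := by
    intro a i
    induction i with
    | zero => simp [W.one_mem]
    | succ i ih =>
      rw [pow_succ', MulAut.mul_apply, ← div_mul_div_cancel (X ((X ^ i) a)) ((X ^ i) a) a]
      exact W.mul_mem ⟨(X ^ i) a, rfl⟩ ih
  -- every fixed element of `V` lies in `gen x`
  refine D.bad V hVn hVinv hVne ?_
  rintro v ⟨hvV, hvfix⟩
  let v0 : ↥V := ⟨v, hvV⟩
  have hxv0 : xv v0 = v0 := Subtype.ext hvfix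
  let G0 : Subgroup ↥V := (gen x).subgroupOf V
  let s : ↥V := ∏ w : ↥W, ((w : ↥Ab) : MulAut ↥V) v0
  have hWs : ∀ w ∈ W, ((w : ↥Ab) : MulAut ↥V) s = s := by
    intro w hw
    rw [map_prod]
    refine Fintype.prod_equiv (Equiv.mulLeft (⟨w, hw⟩ : ↥W)) _ _ fun w' => ?_
    rfl
  have hXW : ∀ w ∈ W, X w ∈ W := by
    rintro _ ⟨a, rfl⟩
    exact ⟨X a, (map_div X (X a) a).symm⟩
  have hxs : xv s = s := by
    rw [map_prod]
    refine Fintype.prod_equiv (resAut X W hXW).toEquiv _ _ fun w => ?_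
    rw [hXact, hxv0]
    rfl
  -- the part fixed by `W`
  have hsS : s ∈ G0 := by
    have hpow : ∀ a : ↥Ab, ((a ^ p : ↥Ab) : MulAut ↥V) s / s ∈ G0 := by
      intro a
      let nm : ↥Ab := ∏ i ∈ Finset.range p, (X ^ i) a
      have hXnm : X nm = nm := by
        rw [map_prod]
        obtain ⟨m, hm⟩ : ∃ m, p = m + 1 := Nat.exists_eq_succ_of_ne_zero hp.out.ne_zero
        have hX1 : ∀ i : ℕ, X ((X ^ i) a) = (X ^ (i + 1)) a := fun i => by rw [pow_succ', MulAut.mul_apply]
        simp only [nm]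
        rw [Finset.prod_congr rfl fun i _ => hX1 i, hm, Finset.prod_range_succ,
          Finset.prod_range_succ' (fun i => (X ^ i) a), ← hm, hXp, pow_zero]
      have hnma : nm / a ^ p ∈ W := by
        have : a ^ p = ∏ _i ∈ Finset.range p, a := by rw [Finset.prod_const, Finset.card_range]
        rw [this, ← Finset.prod_div_distrib]
        exact W.prod_mem fun i _ => hWmem a i
      have h1 : ((a ^ p : ↥Ab) : MulAut ↥V) s = (nm : MulAut ↥V) s := by
        rw [show nm = a ^ p * (nm / a ^ p) from by rw [mul_div_cancel], Subgroup.coe_mul, MulAut.mul_apply,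
          hWs _ hnma]
      obtain ⟨n, hn, hρn⟩ := hNmap nm
      have hd1 : ∀ g ∈ N ⊓ Subgroup.centralizer (V : Set H), x g ∈ N ⊓ Subgroup.centralizer (V : Set H) := by
        refine fun g hg => ⟨hNi g hg.1, (hρker _).1 ?_⟩
        rw [hρx, (hρker g).2 hg.2, mul_one, mul_inv_cancel]
      have hd2 : n⁻¹ * x n ∈ N ⊓ Subgroup.centralizer (V : Set H) := by
        refine ⟨N.mul_mem (N.inv_mem hn) (hNi n hn), (hρker _).1 ?_⟩
        rw [map_mul, map_inv, hρx, hρn, ← hX, hXnm, inv_mul_cancel]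
      obtain ⟨d, hd, hdfix⟩ := exists_fixed_mem_coset (p := p) x D.pow D.cop hd1 hd2
      obtain ⟨k, hk, v', hv', -, heq⟩ := D.quo V hVn hVinv hVne (n * d) hdfix
      have h2 : (nm : MulAut ↥V) = ρ k := by
        have e1 : ρ (n * d) = nm := by rw [map_mul, hρn, (hρker d).2 hd.2, mul_one]
        have e2 : ρ v' = 1 := (hρker v').2 (Subgroup.mem_centralizer_iff.2 fun w hw =>
          congrArg Subtype.val (hVcomm ⟨w, hw⟩ ⟨v', hv'⟩))
        rw [← e1, heq, map_mul, e2, mul_one]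
      rw [h1, h2, Subgroup.mem_subgroupOf, Subgroup.coe_div, hρa, div_eq_mul_inv, mul_assoc k, mul_assoc k]
      exact mul_mem hk (conj_gen x (congrArg Subtype.val hxs) (inv_mem hk))
    have hall : ∀ a : ↥Ab, (a : MulAut ↥V) s / s ∈ G0 := by
      intro a
      obtain ⟨m, hm⟩ := exists_pow_eq_self_of_coprime (x := a) (n := p)
        (hcopA.coprime_dvd_left (orderOf_dvd_natCard a)).symm
      rw [← hm, ← pow_mul, mul_comm, pow_mul]
      exact hpow _
    have hprod : ∏ a : ↥Ab, (a : MulAut ↥V) s = 1 := by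
      have hmem : ((∏ a : ↥Ab, (a : MulAut ↥V) s : ↥V) : H) ∈ V ⊓ Subgroup.centralizer (N1 : Set H) := by
        refine ⟨(∏ a : ↥Ab, (a : MulAut ↥V) s : ↥V).2, Subgroup.mem_centralizer_iff.2 fun g hg => ?_⟩
        have hfix : ρ g (∏ a : ↥Ab, (a : MulAut ↥V) s) = ∏ a : ↥Ab, (a : MulAut ↥V) s := by
          rw [map_prod]
          exact Fintype.prod_equiv (Equiv.mulLeft (⟨ρ g, Subgroup.mem_map_of_mem ρ hg⟩ : ↥Ab)) _ _
            fun a => rfl
        have := congrArg Subtype.val hfix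
        rw [hρa] at this
        exact mul_inv_eq_iff_eq_mul.1 this
      rw [hfixtriv N1 (hpartn r) (hparti r) hN1not, Subgroup.mem_bot] at hmem
      exact Subtype.ext hmem
    have h3 : ∏ a : ↥Ab, ((a : MulAut ↥V) s / s) ∈ G0 := G0.prod_mem fun a _ => hall a
    rw [Finset.prod_div_distrib, hprod, Finset.prod_const, Finset.card_univ, one_div,
      Subgroup.inv_mem_iff, ← Nat.card_eq_fintype_card] at h3
    exact mem_of_pow_mem (hexp s) hAq h3
  -- the part moved by `W`
  let Dv : ↥V := v0 ^ Fintype.card ↥W / s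
  have hDfix : xv Dv = Dv := by rw [map_div, map_pow, hxv0, hxs]
  have hDprod : Dv = ∏ w : ↥W, (v0 / ((w : ↥Ab) : MulAut ↥V) v0) := by
    rw [Finset.prod_div_distrib, Finset.prod_const, Finset.card_univ]
  have hDS : Dv ∈ G0 := by
    by_cases hM : N ⊔ V = ⊤
    · -- `H = V ⋊ N` with `N` abelian
      have hinj : ∀ g ∈ N, ρ g = 1 → g = 1 := by
        intro g hg hρg
        by_contra hg1
        let D0 : Subgroup ↥N := (Subgroup.centralizer (V : Set H)).subgroupOf N
        haveI : D0.Normal := by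
          haveI : (Subgroup.centralizer (V : Set H)).Normal := inferInstance
          infer_instance
        haveI := hNr.isNilpotent
        have hD0 : ¬ D0 ≤ (⊥ : Subgroup ↥N) := fun h => hg1 (congrArg Subtype.val
          (Subgroup.mem_bot.1 (h (show (⟨g, hg⟩ : ↥N) ∈ D0 from (hρker g).1 hρg))))
        obtain ⟨e, he, he1, hec⟩ := exists_step' (inferInstance : D0.Normal) hD0
        have hecent : (e : H) ∈ Subgroup.center H := by
          refine Subgroup.mem_center_iff.2 fun y => ?_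
          have hle : N ⊔ V ≤ Subgroup.centralizer ({(e : H)} : Set H) := by
            refine sup_le (fun n hn => ?_) (fun w hw => ?_)
            · rw [Subgroup.mem_centralizer_singleton_iff]
              exact congrArg Subtype.val
                (commutatorElement_eq_one_iff_commute.1 (Subgroup.mem_bot.1 (hec ⟨n, hn⟩))).eq
            · rw [Subgroup.mem_centralizer_singleton_iff]
              exact Subgroup.mem_centralizer_iff.1 (show (e : H) ∈ Subgroup.centralizer (V : Set H) from he) w hw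
          exact Subgroup.mem_centralizer_singleton_iff.1 (hle (hM ▸ Subgroup.mem_top y))
        rw [hZ, Subgroup.mem_bot] at hecent
        exact he1 (Subgroup.mem_bot.2 (Subtype.ext hecent))
      have hNab : ∀ a ∈ N, ∀ b ∈ N, a * b = b * a := by
        intro a ha b hb
        refine (commutatorElement_eq_one_iff_commute.1 (hinj _ ?_ ?_)).eq
        · rw [commutatorElement_def]
          exact mul_mem (mul_mem (mul_mem ha hb) (inv_mem ha)) (inv_mem hb)
        · rw [map_commutatorElement]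
          exact commutatorElement_eq_one_iff_commute.2 (hN0c a (hNN1 ha).1 b (hNN1 hb).1)
      let Nm : ↥V →* ↥V :=
        { toFun := fun a => ∏ i ∈ Finset.range p, (xv ^ i) a
          map_one' := by simp
          map_mul' := fun a b => by simp [Finset.prod_mul_distrib] }
      have hNmd : ∀ a, Nm a = ∏ i ∈ Finset.range p, (xv ^ i) a := fun _ => rfl
      have hshift : ∀ a, Nm (xv a) = Nm a := by
        intro a
        obtain ⟨m, hm⟩ : ∃ m, p = m + 1 := Nat.exists_eq_succ_of_ne_zero hp.out.ne_zero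
        have h1 : ∀ i : ℕ, (xv ^ i) (xv a) = (xv ^ (i + 1)) a := fun i => by rw [pow_succ, MulAut.mul_apply]
        rw [hNmd, hNmd, Finset.prod_congr rfl fun i _ => h1 i, hm, Finset.prod_range_succ,
          Finset.prod_range_succ' (fun i => (xv ^ i) a), ← hm, hxvpow, pow_zero]
      have hNmfix : ∀ a, xv (Nm a) = Nm a := fun a => by
        refine Eq.trans ?_ (hshift a)
        rw [hNmd, hNmd, map_prod]
        refine Finset.prod_congr rfl fun i _ => ?_
        rw [← MulAut.mul_apply, ← pow_succ', pow_succ, MulAut.mul_apply]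
      let T : Additive ↥V →+ Additive ↥V := MonoidHom.toAdditive Nm
      let ρ' : ↥Ab →* AddMonoid.End (Additive ↥V) :=
        { toFun := fun a => MonoidHom.toAdditive ((a : MulAut ↥V).toMonoidHom)
          map_one' := rfl
          map_mul' := fun _ _ => rfl }
      have key := fixed_mem hp.out D.odd hq hpq hcopA hAq
        (M := Additive ↥V) (fun m => congrArg Additive.ofMul (hexp m.toMul)) ρ' X hXp W
        (by rintro w ⟨u, rfl⟩; exact ⟨u, rfl⟩) T (Subgroup.toAddSubgroup G0) ?_ (Additive.ofMul v0)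
      · have h1 : Nm Dv ∈ G0 := by
          have h2 : Nm (v0 ^ Fintype.card ↥W / ∏ w : ↥W, ((w : ↥Ab) : MulAut ↥V) v0) ∈ G0 := key
          exact h2
        rw [hNmd, Finset.prod_congr rfl fun i _ => pow_fixed xv hDfix i, Finset.prod_const,
          Finset.card_range] at h1
        exact mem_of_pow_mem (hexp Dv) ((Nat.coprime_primes hp.out hq).2 hpq) h1
      · intro u vA
        obtain ⟨v1, rfl⟩ := Additive.ofMul.surjective vA
        obtain ⟨n, hn, hρn⟩ := hNmap u
        let a : ↥Ab := (X⁻¹) u / u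
        let b : ↥Ab := X u / u
        -- the two generators of `[g, P]`, `g = n v`
        let g : H := n * v1
        have hwb : ρ (n⁻¹ * x n) = b := by
          rw [map_mul, map_inv, hρx, hρn, ← hX, ← Subgroup.coe_inv, ← Subgroup.coe_mul]
          exact congrArg _ (inv_mul_eq_div u (X u))
        have hxu : ∀ m : H, m ∈ N → ∀ w : ↥Ab, ρ m = w → ρ (x⁻¹ m) = ((X⁻¹) w : ↥Ab) := by
          intro m hm w hw
          obtain ⟨w, rfl⟩ := X.surjective w
          rw [MulAut.inv_apply_self]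
          have e := hρx (x⁻¹ m)
          rw [MulAut.apply_inv_self, hw, hX] at e
          exact mul_left_cancel (mul_right_cancel e.symm)
        have hwa : ρ (n⁻¹ * x⁻¹ n) = a := by
          rw [map_mul, map_inv, hxu n hn u hρn, hρn, ← Subgroup.coe_inv, ← Subgroup.coe_mul]
          exact congrArg _ (inv_mul_eq_div u _)
        let t1 : ↥V := v1⁻¹ * (b : MulAut ↥V) (xv v1)
        let t2 : ↥V := v1⁻¹ * (a : MulAut ↥V) (xv⁻¹ v1)
        let z : ↥V := t1 * (b : MulAut ↥V) t2 * ((a : MulAut ↥V) t1)⁻¹ * t2⁻¹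
        have hxi : ((xv⁻¹ v1 : ↥V) : H) = x⁻¹ (v1 : H) := by
          apply x.injective
          rw [MulAut.apply_inv_self]
          exact congrArg Subtype.val (MulAut.apply_inv_self _ xv v1)
        have hww : (n⁻¹ * x n) * (n⁻¹ * x⁻¹ n) = (n⁻¹ * x⁻¹ n) * (n⁻¹ * x n) :=
          hNab _ (N.mul_mem (N.inv_mem hn) (hNi n hn)) _ (N.mul_mem (N.inv_mem hn) (by
            rw [hxinv]; exact pow_mem_of_inv x hNi _ n hn))
        have hz : (z : H) = ⁅g⁻¹ * x g, g⁻¹ * x⁻¹ g⁆ := by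
          simp only [z, t1, t2, g, Subgroup.coe_mul, Subgroup.coe_inv, ← hwb, ← hwa, hρa, hxi]
          rw [map_mul, map_mul]
          exact comm_identity n (x n) (x⁻¹ n) (v1 : H) (x v1) (x⁻¹ (v1 : H)) hww
        have hzbr : (z : H) ∈ br x g := by
          have h1 := mem_br_one x g
          have h2 : g⁻¹ * x⁻¹ g ∈ br x g := by rw [hxinv]; exact mem_br x g (p - 1)
          rw [hz, commutatorElement_def]
          exact mul_mem (mul_mem (mul_mem h1 h2) (inv_mem h1)) (inv_mem h2)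
        have hmem : Nm z ∈ G0 := by
          have hbr : ∀ i : ℕ, ((xv ^ i) z : ↥V) ∈ (br x g).subgroupOf V := fun i => by
            rw [Subgroup.mem_subgroupOf]
            rw [show (((xv ^ i) z : ↥V) : H) = (x ^ i) (z : H) from
              map_pow_apply x xv V.subtype (fun _ => rfl) i z]
            exact pow_mem_of_inv x (br_inv x g) i _ hzbr
          have h1 : Nm z ∈ (br x g).subgroupOf V := by
            rw [hNmd]; exact Subgroup.prod_mem _ fun i _ => hbr i
          exact mem_gen x h1 (congrArg Subtype.val (hNmfix z))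
        have hval := six_identity X xv Ab.subtype hXact Nm hshift u v1
        change Nm z = _ at hval
        rw [hval] at hmem
        simp only [← div_eq_mul_inv] at hmem
        rw [map_add, map_sub, map_sub, map_add, map_sub]
        exact hmem
    · let M : Subgroup H := N ⊔ V
      have hMi : ∀ g ∈ M, x g ∈ M := by
        have : M ≤ M.comap x.toMonoidHom := sup_le (fun g hg => Subgroup.mem_sup_left (hNi g hg))
          (fun g hg => Subgroup.mem_sup_right (hVinv g hg))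
        exact fun g hg => this hg
      let xm := resAut x M hMi
      let C' : Subgroup ↥V := ((comm xm).map M.subtype).subgroupOf V
      have hone : ∀ w : ↥W, v0 / ((w : ↥Ab) : MulAut ↥V) v0 ∈ C' := by
        rintro ⟨_, u, rfl⟩
        obtain ⟨n, hn, hρn⟩ := hNmap u
        have hw : ((δ u : ↥Ab) : MulAut ↥V) = ρ (n⁻¹ * x n) := by
          rw [map_mul, map_inv, hρx, hρn, ← hX, ← Subgroup.coe_inv, ← Subgroup.coe_mul]
          exact congrArg _ (inv_mul_eq_div u (X u)).symm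
        rw [hw, Subgroup.mem_subgroupOf, Subgroup.coe_div, hρa]
        haveI := comm_normal xm
        let nn : ↥M := ⟨n, Subgroup.mem_sup_left hn⟩
        let vv : ↥M := ⟨v, Subgroup.mem_sup_right hvV⟩
        have hy : nn⁻¹ * (xm ^ 1) nn ∈ comm xm := mem_comm _ _ _
        have h1 := (comm xm).mul_mem ((comm_normal xm).conj_mem _ hy vv) ((comm xm).inv_mem hy)
        have h2 := Subgroup.mem_map_of_mem M.subtype h1
        have h3 : v * (n⁻¹ * x n) * v⁻¹ * (n⁻¹ * x n)⁻¹ ∈ (comm xm).map M.subtype := by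
          simpa [nn, vv, xm] using h2
        rw [show v / (n⁻¹ * x n * v * (n⁻¹ * x n)⁻¹) = v * (n⁻¹ * x n) * v⁻¹ * (n⁻¹ * x n)⁻¹ by rw [div_eq_mul_inv]; group]
        exact h3
      have hD : Dv ∈ C' := by
        rw [hDprod]; exact Subgroup.prod_mem _ fun w _ => hone w
      exact D.sub M hMi hM _ hD (congrArg Subtype.val hDfix)
  have h : v0 ^ Fintype.card ↥W ∈ G0 := by
    have := G0.mul_mem hDS hsS
    rwa [div_mul_cancel] at this
  refine mem_of_pow_mem (S := G0) (hexp v0) ?_ h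
  rw [← Nat.card_eq_fintype_card]
  exact hAq.coprime_dvd_left (Subgroup.card_subgroup_dvd_card W)

end Module

/-- Fixed points of `[H, P]` are generated by those of the `[h, P]`. -/
theorem fixed_le_gen {p : ℕ} [hp : Fact p.Prime] (hodd : p ≠ 2) :
    ∀ (n : ℕ) (H : Type v₁) [Group H] [Finite H], Nat.card H = n → Group.IsSolvable H →
      (Nat.card H).Coprime p → ∀ x : MulAut H, x ^ p = 1 → fixed x ⊓ comm x ≤ gen x := by
  intro n
  induction n using Nat.strong_induction_on with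
  | _ n ih =>
    intro H _ _ hn hsol hcop x hx
    have hsub : ∀ (S : Subgroup H) (hS : ∀ s ∈ S, x s ∈ S), S ≠ ⊤ → ∀ z : H,
        z ∈ (comm (resAut x S hS)).map S.subtype → x z = z → z ∈ gen x := by
      rintro S hS hne _ ⟨a, ha, rfl⟩ hfix
      have hlt : Nat.card ↥S < n := by
        rw [← hn]
        exact lt_of_le_of_ne (Subgroup.card_le_card_group S) fun h => hne (Subgroup.eq_top_of_card_eq _ h)
      haveI := hsol
      have := ih _ hlt ↥S rfl inferInstance (hcop.coprime_dvd_left (Subgroup.card_subgroup_dvd_card S))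
        (resAut x S hS) (resAut_pow x hS hx) ⟨Subtype.ext hfix, ha⟩
      exact map_gen_le x (resAut x S hS) S.subtype (fun _ => rfl) (Subgroup.mem_map_of_mem _ this)
    rintro z ⟨hzf, hzc⟩
    by_cases htop : comm x = ⊤
    swap
    · exact hsub (comm x) (comm_inv x) htop z (comm_comm x hx hcop hzc) hzf
    rcases subsingleton_or_nontrivial H with hs | hnt
    · rw [Subsingleton.elim z 1]; exact one_mem _
    by_contra hz
    have hquo : ∀ (N : Subgroup H), N.Normal → (∀ s ∈ N, x s ∈ N) → N ≠ ⊥ →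
        ∀ c : H, x c = c → ∃ k ∈ gen x, ∃ v ∈ N, x v = v ∧ c = k * v := by
      intro N hN hNi hNne c hc
      haveI := hN
      let f := QuotientGroup.mk' N
      let xq := quotAut x N hNi
      have hlt : Nat.card (H ⧸ N) < n := by
        rw [← hn, Subgroup.card_eq_card_quotient_mul_card_subgroup N]
        exact lt_mul_of_one_lt_right Nat.card_pos (Subgroup.one_lt_card_iff_ne_bot N |>.2 hNne)
      haveI := hsol
      have hq := ih _ hlt (H ⧸ N) rfl inferInstance
        (hcop.coprime_dvd_left (Subgroup.card_quotient_dvd_card N)) xq (quotAut_pow x hNi hx)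
      have hle : gen xq ≤ (gen x).map f := by
        refine iSup_le fun h' => ?_
        obtain ⟨h, rfl⟩ := QuotientGroup.mk'_surjective N h'
        rintro y ⟨hy, hyf⟩
        rw [← map_br xq x f (fun _ => rfl)] at hy
        obtain ⟨b, hb, rfl⟩ := hy
        obtain ⟨w, hw, hwf, hwe⟩ := exists_fixed_lift (p := p) x hx hcop xq f (fun _ => rfl)
          (br_inv x h) hb hyf
        exact ⟨w, mem_gen x (h := h) hw hwf, hwe⟩
      have hfc : f c ∈ fixed xq ⊓ comm xq := by
        refine ⟨?_, ?_⟩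
        · change xq (f c) = f c
          rw [quotAut_mk, hc]
        · rw [← map_comm_eq xq x f (fun _ => rfl) (QuotientGroup.mk'_surjective _), htop]
          exact Subgroup.mem_map_of_mem f (Subgroup.mem_top c)
      obtain ⟨k, hk, hkc⟩ := hle (hq hfc)
      refine ⟨k, hk, k⁻¹ * c, (QuotientGroup.eq).1 hkc, ?_, by rw [mul_inv_cancel_left]⟩
      rw [map_mul, map_inv, (mem_fixed x).1 (gen_le_fixed x hk), hc]
    have D : Minimal (p := p) x :=
      { pow := hx
        odd := hodd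
        cop := hcop
        top := htop
        sub := hsub
        quo := hquo
        bad := fun N hN hNi hNne hle => hz (by
          obtain ⟨k, hk, v, hv, hvf, rfl⟩ := hquo N hN hNi hNne z hzf
          exact mul_mem hk (hle ⟨hv, hvf⟩)) }
    exact D.absurd hsol

end Cfsg.Agent.CoprimeGen
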